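/-
Arithmetic of the degrees `2 ^ k a` modulo Mersenne and Fermat primes.
-/
import Mathlib

set_option autoImplicit false

namespace Cfsg.Agent.Lib.BrauerTuan

open Finset

/-- A vanishing weighted sum of signed powers is empty. -/
theorem eq_empty_of_sum_eq_zero {ι : Type*} (S : Finset ι) (v : ι → ℤ) {σ : ℤ} (hσ : σ = 1 ∨ σ = -1)
    {Q : ℕ} (hcard : 2 * S.card < Q)
    (hv : ∀ i ∈ S, ∃ (j w : ℕ) (u : ℤ), 1 ≤ w ∧ w ≤ 2 ∧ v i = σ ^ j * (Q : ℤ) ^ j * (w + Q * u))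
    (hsum : ∑ i ∈ S, v i = 0) : S = ∅ := by
  classical
  by_contra hne
  choose! j w u hw1 hw2 hveq using hv
  obtain ⟨i0, hi0, hmin⟩ := exists_min_image S j (nonempty_iff_ne_empty.mpr hne)
  set j0 := j i0
  set S0 := S.filter fun i => j i = j0
  have hQ : 0 < Q := by omega
  have h1 : ∀ i ∈ S, ∃ r : ℤ, v i =
      σ ^ j0 * (Q : ℤ) ^ j0 * ((if j i = j0 then (w i : ℤ) else 0) + Q * r) := by
    intro i hi
    by_cases h : j i = j0
    · exact ⟨u i, by rw [if_pos h, hveq i hi, h]⟩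
    · obtain ⟨d, hd⟩ : ∃ d, j i = j0 + (d + 1) := ⟨j i - j0 - 1, by have := hmin i hi; omega⟩
      exact ⟨σ ^ (d + 1) * (Q : ℤ) ^ d * (w i + Q * u i), by
        rw [if_neg h, hveq i hi, hd]; ring⟩
  choose! r hr using h1
  rw [sum_congr rfl hr, ← mul_sum, mul_eq_zero] at hsum
  rcases hsum with h | h
  · rcases mul_eq_zero.mp h with h2 | h2
    · rcases hσ with rfl | rfl <;> simp at h2
    · exact pow_ne_zero _ (by exact_mod_cast hQ.ne') h2
  rw [sum_add_distrib, ← sum_filter, ← mul_sum] at h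
  have h3 : (Q : ℤ) ∣ ((∑ i ∈ S0, w i : ℕ) : ℤ) := by
    push_cast
    exact ⟨-∑ i ∈ S, r i, by linear_combination h⟩
  have h4 : ∑ i ∈ S0, w i ≤ 2 * S.card := by
    refine le_trans (sum_le_sum fun i hi => hw2 i (mem_filter.mp hi).1) ?_
    rw [sum_const, smul_eq_mul, mul_comm]
    exact Nat.mul_le_mul_left 2 (card_filter_le _ _)
  have h5 : 0 < ∑ i ∈ S0, w i :=
    sum_pos (fun i hi => hw1 i (mem_filter.mp hi).1) ⟨i0, mem_filter.mpr ⟨hi0, rfl⟩⟩
  have := Nat.le_of_dvd h5 (Int.natCast_dvd_natCast.mp h3)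
  omega

theorem two_pow_modEq_one_mersenne {p m : ℕ} (hp : p + 1 = 2 ^ m) :
    (2 : ℤ) ^ m ≡ 1 [ZMOD p] := by
  rw [Int.modEq_iff_dvd]
  refine ⟨-1, ?_⟩
  have : ((2 ^ m : ℕ) : ℤ) = (p : ℤ) + 1 := by rw [← hp]; push_cast; ring
  push_cast at this
  rw [this]; ring

theorem dvd_of_two_pow_modEq_mersenne {p m b : ℕ} (hp : p + 1 = 2 ^ m) (hm : 2 ≤ m)
    (hb : (2 : ℤ) ^ b ≡ 1 [ZMOD p]) : m ∣ b := by
  have h := (two_pow_modEq_one_mersenne hp).pow (b / m)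
  rw [one_pow, ← pow_mul] at h
  have h2 : (2 : ℤ) ^ (b % m) ≡ 1 [ZMOD p] := by
    have h3 : (2 : ℤ) ^ b = 2 ^ (m * (b / m)) * 2 ^ (b % m) := by
      rw [← pow_add, Nat.div_add_mod]
    rw [h3] at hb
    exact ((h.mul_right _).symm.trans hb |> fun h4 => by rwa [one_mul] at h4)
  by_contra hne
  have hr : 0 < b % m := Nat.pos_of_ne_zero fun h0 => hne (Nat.dvd_of_mod_eq_zero h0)
  have hr' : b % m < m := Nat.mod_lt _ (by omega)
  have h5 : 2 ^ (b % m) * 2 ≤ 2 ^ m := by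
    rw [← pow_succ]; exact Nat.pow_le_pow_right (by norm_num) hr'
  have h6 : 2 ≤ 2 ^ (b % m) := Nat.le_self_pow hr.ne' 2
  have h8 : (p : ℤ) ∣ (1 : ℤ) - (2 : ℤ) ^ (b % m) := Int.modEq_iff_dvd.mp h2
  have h7 : ((1 : ℤ) - (2 : ℤ) ^ (b % m)) = -((2 ^ (b % m) - 1 : ℕ) : ℤ) := by
    push_cast [show 1 ≤ 2 ^ (b % m) by omega]
    ring
  rw [h7, dvd_neg, Int.natCast_dvd_natCast] at h8
  have := Nat.le_of_dvd (by omega) h8
  omega

/-- The possible degrees modulo a Mersenne prime. -/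
theorem degree_mersenne {p m : ℕ} (hp : p + 1 = 2 ^ m) (hm : 2 ≤ m) {k a : ℕ} (ha : Odd a)
    (hale : a ≤ 2 ^ (m - 1) - 1) {δ : ℤ} (hδ : δ = 1 ∨ δ = -1)
    (hf : (2 : ℤ) ^ k * a ≡ δ [ZMOD p]) :
    ∃ j, (δ = 1 ∧ 2 ^ k * a = 2 ^ (m * j)) ∨ (δ = -1 ∧ 2 ^ k * a = (2 ^ m - 2) * 2 ^ (m * j)) := by
  have hm1 : 2 ^ m = 2 * 2 ^ (m - 1) := by
    rw [← pow_succ']; congr 1; omega
  have h2 : (2 : ℤ) ^ m ≡ 1 [ZMOD p] := two_pow_modEq_one_mersenne hp
  obtain ⟨i, j, hi, rfl⟩ : ∃ i j, i < m ∧ k = m * j + i :=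
    ⟨k % m, k / m, Nat.mod_lt _ (by omega), (Nat.div_add_mod k m).symm⟩
  have h3 : (2 : ℤ) ^ i * a ≡ δ [ZMOD p] := by
    have h4 := (h2.pow j).mul_right ((2 : ℤ) ^ i * a)
    rw [one_pow, one_mul, ← pow_mul, ← mul_assoc, ← pow_add] at h4
    exact h4.symm.trans hf
  refine ⟨j, ?_⟩
  set r := if i = 0 then 0 else m - i with hr
  have hrm : r < m := by rw [hr]; split_ifs <;> omega
  have h5 : (a : ℤ) ≡ δ * 2 ^ r [ZMOD p] := by
    have h6 := h3.mul_right ((2 : ℤ) ^ r)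
    have h7 : (2 : ℤ) ^ (i + r) ≡ 1 [ZMOD p] := by
      by_cases h0 : i = 0
      · rw [hr, if_pos h0, h0]; simp
      · rw [hr, if_neg h0, show i + (m - i) = m by omega]; exact h2
    have h8 := h7.mul_right (a : ℤ)
    rw [one_mul, pow_add, mul_right_comm] at h8
    exact h8.symm.trans h6
  have h9 : 2 ^ r ≤ 2 ^ (m - 1) := Nat.pow_le_pow_right (by norm_num) (by omega)
  obtain ⟨a', rfl⟩ := ha
  rcases hδ with rfl | rfl
  · left
    refine ⟨rfl, ?_⟩
    rw [one_mul] at h5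
    have h10 : (2 * a' + 1) % p = 2 ^ r % p :=
      Int.natCast_modEq_iff.mp (by push_cast; push_cast at h5; exact h5)
    rw [Nat.mod_eq_of_lt (by omega), Nat.mod_eq_of_lt (by omega)] at h10
    rcases Nat.eq_zero_or_pos r with h0 | h0
    · rw [h0, pow_zero] at h10
      have hi0 : i = 0 := by rw [hr] at h0; split_ifs at h0 <;> omega
      rw [hi0, show 2 * a' + 1 = 1 by omega, add_zero, mul_one]
    · have := dvd_pow_self 2 h0.ne'
      omega
  · right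
    refine ⟨rfl, ?_⟩
    have h10 : p ∣ (2 * a' + 1) + 2 ^ r := by
      rw [← Int.natCast_dvd_natCast]
      have h11 := (Int.modEq_iff_dvd.mp h5).neg_right
      push_cast at h11 ⊢
      convert h11 using 1 <;> first | rfl | ring
    obtain ⟨c, hc⟩ := h10
    have hc1 : c = 1 := by
      rcases c with _ | _ | c
      · simp at hc
      · rfl
      · exfalso
        have : p * 2 ≤ p * (c + 1 + 1) := Nat.mul_le_mul_left _ (by omega)
        omega
    rw [hc1, mul_one] at hc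
    have hr1 : r = m - 1 := by
      by_contra h
      have : 2 ^ r * 2 ≤ 2 ^ (m - 1) := by
        rw [← pow_succ]; exact Nat.pow_le_pow_right (by norm_num) (by omega)
      omega
    have hi1 : i = 1 := by rw [hr] at hr1; split_ifs at hr1 <;> omega
    have ha' : 2 * a' + 1 = 2 ^ (m - 1) - 1 := by rw [hr1] at hc; omega
    rw [ha', hi1, pow_add, pow_one, mul_assoc, Nat.mul_sub, mul_one, ← hm1, mul_comm]

theorem two_pow_modEq_neg_one_fermat {p m : ℕ} (hp : p = 2 ^ m + 1) :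
    (2 : ℤ) ^ m ≡ -1 [ZMOD p] := by
  rw [Int.modEq_iff_dvd]
  refine ⟨-1, ?_⟩
  rw [hp]
  push_cast
  ring

/-- Exponents `b` with `2 ^ b ≡ -1` modulo a Fermat prime. -/
theorem exists_of_two_pow_modEq_fermat {p m b : ℕ} (hp : p = 2 ^ m + 1) (hm : 1 ≤ m)
    (hb : (2 : ℤ) ^ b ≡ -1 [ZMOD p]) : ∃ s, b = m * (2 * s + 1) := by
  have h2 := two_pow_modEq_neg_one_fermat hp
  obtain ⟨i, j, hi, rfl⟩ : ∃ i j, i < m ∧ b = m * j + i :=
    ⟨b % m, b / m, Nat.mod_lt _ (by omega), (Nat.div_add_mod b m).symm⟩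
  have h3 : (-1 : ℤ) ^ j * 2 ^ i ≡ -1 [ZMOD p] := by
    have h4 := (h2.pow j).mul_right ((2 : ℤ) ^ i)
    rw [← pow_mul, ← pow_add] at h4
    exact h4.symm.trans hb
  have h5 : 2 ^ i * 2 ≤ 2 ^ m := by
    rw [← pow_succ]; exact Nat.pow_le_pow_right (by norm_num) hi
  rcases Nat.even_or_odd j with hj | hj
  · exfalso
    rw [hj.neg_one_pow, one_mul] at h3
    have h6 : p ∣ 2 ^ i + 1 := by
      rw [← Int.natCast_dvd_natCast]
      have h7 := (Int.modEq_iff_dvd.mp h3).neg_right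
      push_cast
      convert h7 using 1 <;> first | rfl | ring
    have := Nat.le_of_dvd (by omega) h6
    have := Nat.two_pow_pos i
    omega
  · have hi0 : i = 0 := by
      by_contra hne
      rw [hj.neg_one_pow] at h3
      have h6 : p ∣ 2 ^ i - 1 := by
        rw [← Int.natCast_dvd_natCast]
        push_cast [Nat.one_le_two_pow]
        have h7 := Int.modEq_iff_dvd.mp h3
        convert h7 using 1 <;> first | rfl | ring
      have h8 : 2 ≤ 2 ^ i := Nat.le_self_pow hne 2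
      have := Nat.le_of_dvd (by omega) h6
      omega
    obtain ⟨s, rfl⟩ := hj
    exact ⟨s, by rw [hi0, add_zero]⟩

/-- The possible degrees modulo a Fermat prime. -/
theorem degree_fermat {p m : ℕ} (hp : p = 2 ^ m + 1) (hm : 2 ≤ m) {k a : ℕ} (ha : Odd a)
    (hale : a ≤ 2 ^ (m - 1) + 1) {δ : ℤ} (hδ : δ = 1 ∨ δ = -1)
    (hf : (2 : ℤ) ^ k * a ≡ δ [ZMOD p]) :
    ∃ j, δ = (-1) ^ j ∧ (2 ^ k * a = 2 ^ (m * j) ∨ 2 ^ k * a = (2 ^ m + 2) * 2 ^ (m * j)) := by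
  have hm1 : 2 ^ m = 2 * 2 ^ (m - 1) := by
    rw [← pow_succ']; congr 1; omega
  have hm2 : 2 ≤ 2 ^ (m - 1) := Nat.le_self_pow (by omega) 2
  have h2 := two_pow_modEq_neg_one_fermat hp
  obtain ⟨i, j, hi, rfl⟩ : ∃ i j, i < m ∧ k = m * j + i :=
    ⟨k % m, k / m, Nat.mod_lt _ (by omega), (Nat.div_add_mod k m).symm⟩
  refine ⟨j, ?_⟩
  have hsq : ((-1 : ℤ) ^ j) * ((-1 : ℤ) ^ j) = 1 := by rw [← mul_pow]; norm_num
  obtain ⟨δ', hδ', hδ'' ⟩ : ∃ δ' : ℤ, (δ' = 1 ∨ δ' = -1) ∧ δ = (-1) ^ j * δ' :=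
    ⟨(-1) ^ j * δ, by rcases hδ with rfl | rfl <;> rcases neg_one_pow_eq_or ℤ j with h | h <;>
      simp [h], by rw [← mul_assoc, hsq, one_mul]⟩
  have h3 : (2 : ℤ) ^ i * a ≡ δ' [ZMOD p] := by
    have h4 := (h2.pow j).mul_right ((2 : ℤ) ^ i * a)
    rw [← pow_mul, ← mul_assoc, ← pow_add] at h4
    have h5 := (h4.symm.trans hf).mul_left ((-1 : ℤ) ^ j)
    rwa [hδ'', ← mul_assoc, hsq, one_mul, ← mul_assoc, hsq, one_mul] at h5
  obtain ⟨a', rfl⟩ := ha
  by_cases h0 : i = 0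
  · subst h0
    rw [pow_zero, one_mul] at h3
    rcases hδ' with rfl | rfl
    · refine ⟨by rw [hδ'', mul_one], Or.inl ?_⟩
      have h10 : (2 * a' + 1) % p = 1 % p :=
        Int.natCast_modEq_iff.mp (by push_cast; push_cast at h3; exact h3)
      rw [Nat.mod_eq_of_lt (by omega), Nat.mod_eq_of_lt (by omega)] at h10
      rw [h10, add_zero, mul_one]
    · exfalso
      have h10 : p ∣ (2 * a' + 1) + 1 := by
        rw [← Int.natCast_dvd_natCast]
        have h11 := (Int.modEq_iff_dvd.mp h3).neg_right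
        push_cast at h11 ⊢
        convert h11 using 1 <;> first | rfl | ring
      have := Nat.le_of_dvd (by omega) h10
      omega
  obtain ⟨r, hr0, hrm, hir⟩ : ∃ r, 0 < r ∧ r < m ∧ i + r = m :=
    ⟨m - i, by omega, by omega, by omega⟩
  have h5 : (a' * 2 + 1 : ℤ) ≡ -δ' * 2 ^ r [ZMOD p] := by
    have h6 := h3.mul_right ((2 : ℤ) ^ r)
    have h8 := h2.mul_right ((2 * a' + 1 : ℕ) : ℤ)
    rw [mul_right_comm, ← pow_add, hir] at h6
    have h9 := (h8.symm.trans h6).neg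
    push_cast at h9
    simp only [neg_mul, one_mul, neg_neg] at h9
    rw [show (a' : ℤ) * 2 + 1 = 2 * a' + 1 by ring, neg_mul]
    exact h9
  have h9 : 2 ^ r ≤ 2 ^ (m - 1) := Nat.pow_le_pow_right (by norm_num) (by omega)
  rcases hδ' with rfl | rfl
  · refine ⟨by rw [hδ'', mul_one], Or.inr ?_⟩
    have h10 : p ∣ (2 * a' + 1) + 2 ^ r := by
      rw [← Int.natCast_dvd_natCast]
      have h11 := (Int.modEq_iff_dvd.mp h5).neg_right
      push_cast at h11 ⊢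
      convert h11 using 1 <;> first | rfl | ring
    obtain ⟨c, hc⟩ := h10
    have hc1 : c = 1 := by
      rcases c with _ | _ | c
      · simp at hc
      · rfl
      · exfalso
        have : p * 2 ≤ p * (c + 1 + 1) := Nat.mul_le_mul_left _ (by omega)
        omega
    rw [hc1, mul_one] at hc
    have hr1 : r = m - 1 := by
      by_contra h
      have : 2 ^ r * 2 ≤ 2 ^ (m - 1) := by
        rw [← pow_succ]; exact Nat.pow_le_pow_right (by norm_num) (by omega)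
      omega
    have ha' : 2 * a' + 1 = 2 ^ (m - 1) + 1 := by rw [hr1] at hc; omega
    rw [ha', show i = 1 by omega, pow_add, pow_one, mul_assoc, mul_add, mul_one, ← hm1, mul_comm]
  · exfalso
    have h10 : (2 * a' + 1) % p = 2 ^ r % p :=
      Int.natCast_modEq_iff.mp (by
        push_cast at h5 ⊢
        simpa [mul_comm (2 : ℤ)] using h5)
    rw [Nat.mod_eq_of_lt (by omega), Nat.mod_eq_of_lt (by omega)] at h10
    have := dvd_pow_self 2 hr0.ne'
    omega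

end Cfsg.Agent.Lib.BrauerTuan
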