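/-
A character of degree less than `p` in the block of a simple group kills the `p'`-part of the centralizer.
-/
import Mathlib
import Cfsg.Agent.Lib.DefectOne.SmallFaithful
import Cfsg.Agent.Lib.BrauerReynolds.Degrees

set_option autoImplicit false
set_option linter.unusedSectionVars false
set_option linter.style.haveILetI false

namespace Cfsg.Agent.Lib.BrauerTuan

open scoped ComplexConjugate
open Cfsg Cfsg.Agent.Lib Finset Subgroup
open Cfsg.Agent.Lib.DefectOne
open Cfsg.Agent.Lib.BrauerReynolds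
open Cfsg.Agent.Lib.SmallGroups.PrimeChar (xp xp_zero)

universe u

variable {G : Type u} [Group G] [Fintype G]

/-- A non-trivial irreducible character of a simple group is faithful. -/
theorem faithful_of_ne_trivial [IsSimpleGroup G] {χ : IrrCharacter G}
    (hne : χ ≠ Chars.trivialIrr G) {g : G} (hg : (χ : G → ℂ) g = (χ : G → ℂ) 1) : g = 1 := by
  classical
  obtain ⟨n, ρ, hρ, hχ⟩ := Chars.irr_exists_rep χ
  have hker : ∀ x : G, x ∈ MonoidHom.ker ρ ↔ (χ : G → ℂ) x = (χ : G → ℂ) 1 := fun x => by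
    rw [MonoidHom.mem_ker, Chars.rep_eq_one_iff, hχ]
  rcases (MonoidHom.normal_ker ρ).eq_bot_or_eq_top with h | h
  · have h1 := (hker g).mpr hg
    rwa [h, mem_bot] at h1
  · exfalso
    have h2 := Chars.classInner_irr_of_ne hne
    have hconst : ∀ x, (χ : G → ℂ) x = (χ : G → ℂ) 1 := fun x => (hker x).mp (h ▸ mem_top x)
    simp only [classInner, Chars.trivialIrr_apply, map_one, mul_one, hconst, sum_const, card_univ,
      nsmul_eq_mul] at h2
    rw [← Nat.card_eq_fintype_card, ← mul_assoc, inv_mul_cancel₀ (Nat.cast_ne_zero.mpr Nat.card_pos.ne'),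
      one_mul] at h2
    exact Chars.irr_apply_one_ne_zero χ h2

variable {p : ℕ} [hp : Fact p.Prime]

theorem V_eq_bot_of_deg_lt [IsSimpleGroup G] (D : Setting p G) {χ : IrrCharacter G}
    (hmem : χ ∈ D.A ∪ D.B) (hne : χ ≠ Chars.trivialIrr G) (hlt : degOf χ < p) : D.S.V = ⊥ := by
  classical
  haveI := Fintype.ofFinite D.S.V
  have hval : ∀ j : ZMod p, j ≠ 0 → (χ : G → ℂ) (xp p D.S.x j) = profile D.S χ j := by
    intro j hj
    rcases mem_union.mp hmem with h | h
    · rw [D.applyA χ h j hj, D.profileA χ h j hj]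
    · exact D.applyB χ h j hj
  have hcl := Chars.irr_isClassFunction χ
  -- the multiplicity of the trivial character of `⟨x⟩`
  obtain ⟨a, ha⟩ : ∃ a : ℕ, pdeg D.S (χ : G → ℂ) 0 = a := by
    refine ⟨∑ φ : IrrCharacter D.S.V, mN D.S (χ : G → ℂ) (0, φ) * degV D.S φ, ?_⟩
    rw [pdeg]
    push_cast
    exact sum_congr rfl fun φ _ => by rw [mN_cast D.S (Chars.irr_isCharacter χ), degV_cast]
  have hsum : ∑ j : ZMod p, (χ : G → ℂ) (xp p D.S.x j) = (p : ℂ) * a := by
    rw [sum_congr rfl fun j _ => apply_xp_eq D.S hcl j, sum_comm,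
      Finset.sum_eq_single (0 : ZMod p) (fun k _ hk => by
        rw [← mul_sum, sum_congr rfl fun j _ => by rw [mul_comm k j],
          AddChar.sum_mulShift k (ZMod.isPrimitive_stdAddChar p), if_neg hk, Nat.cast_zero, mul_zero])
        (fun h => absurd (mem_univ _) h)]
    simp [ha, mul_comm]
  obtain ⟨m, hm⟩ := exists_profMult_nat D.S χ 0
  have hsum' : ∑ j : ZMod p, profile D.S χ j = (p : ℂ) * m := by
    rw [← hm, profMult]
    rw [mul_inv_cancel_left₀ (Nat.cast_ne_zero.mpr hp.out.ne_zero)]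
    simp [AddChar.map_zero_eq_one]
  obtain ⟨r, hr⟩ : ∃ r : ℕ, profile D.S χ 0 = r := by
    choose c hc using exists_profMult_nat D.S χ
    refine ⟨∑ k, c k, ?_⟩
    rw [profile_eq_sum]
    push_cast
    exact sum_congr rfl fun k _ => by rw [hc k, mul_zero, AddChar.map_zero_eq_one, mul_one]
  -- the real part of the average is at most the degree
  have hle : ∀ v : D.S.V, ((χ : G → ℂ) v).re ≤ degOf χ := by
    intro v
    have h1 := Chars.norm_char_le_degree (Chars.irr_isCharacter χ) (v : G)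
    rw [apply_one_eq_degOf, Complex.natCast_re] at h1
    exact (Complex.re_le_norm _).trans h1
  have havg : ∑ v : D.S.V, (χ : G → ℂ) v = (Nat.card D.S.V : ℂ) * r := by
    rw [← hr, profile, avgVal, finsum_eq_sum_of_fintype,
      mul_inv_cancel_left₀ (Nat.cast_ne_zero.mpr Nat.card_pos.ne')]
    simp [xp_zero]
  have hre : ∑ v : D.S.V, ((χ : G → ℂ) v).re = (Nat.card D.S.V : ℝ) * r := by
    have := congrArg Complex.re havg
    simpa [Complex.re_sum] using this
  have hrd : r ≤ degOf χ := by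
    have h1 : (Nat.card D.S.V : ℝ) * r ≤ (Nat.card D.S.V : ℝ) * degOf χ := by
      rw [← hre]
      refine (sum_le_sum fun v _ => hle v).trans (le_of_eq ?_)
      rw [sum_const, card_univ, nsmul_eq_mul, Nat.card_eq_fintype_card]
    exact_mod_cast le_of_mul_le_mul_left h1 (Nat.cast_pos.mpr Nat.card_pos)
  have heq : (degOf χ : ℂ) - r = (p : ℂ) * a - (p : ℂ) * m := by
    rw [← hsum, ← hsum', ← add_sum_erase _ _ (mem_univ (0 : ZMod p)),
      ← add_sum_erase (univ : Finset (ZMod p)) (fun j => profile D.S χ j) (mem_univ (0 : ZMod p)),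
      sum_congr rfl fun j hj => hval j (ne_of_mem_erase hj)]
    simp only [xp_zero, apply_one_eq_degOf, hr]
    ring
  have hrd' : r = degOf χ := by
    have h1 : (degOf χ : ℤ) - r = (p : ℤ) * ((a : ℤ) - m) := by
      rw [mul_sub]
      exact_mod_cast heq
    have h2 : ((degOf χ : ℤ) - r) = 0 := by
      refine Int.eq_zero_of_abs_lt_dvd ⟨_, h1⟩ ?_
      rw [abs_lt]
      constructor <;> omega
    omega
  have hall : ∀ v : D.S.V, ((χ : G → ℂ) v).re = degOf χ := by
    have h1 : ∑ v : D.S.V, ((χ : G → ℂ) v).re = ∑ _v : D.S.V, (degOf χ : ℝ) := by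
      rw [hre, hrd', sum_const, card_univ, nsmul_eq_mul, Nat.card_eq_fintype_card]
    intro v
    exact (sum_eq_sum_iff_of_le fun v _ => hle v).mp h1 v (mem_univ v)
  rw [Subgroup.eq_bot_iff_forall]
  intro v hv
  refine faithful_of_ne_trivial hne ?_
  have h1 := Chars.norm_char_le_degree (Chars.irr_isCharacter χ) v
  rw [apply_one_eq_degOf, Complex.natCast_re] at h1
  rw [apply_one_eq_degOf]
  have h2 : ((χ : G → ℂ) v).re = degOf χ := hall ⟨v, hv⟩
  have h3 : ((χ : G → ℂ) v).re * ((χ : G → ℂ) v).re + ((χ : G → ℂ) v).im * ((χ : G → ℂ) v).im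
      ≤ (degOf χ : ℝ) * degOf χ := by
    rw [← Complex.normSq_apply, Complex.normSq_eq_norm_sq, sq]
    exact mul_self_le_mul_self (norm_nonneg _) h1
  have h4 : ((χ : G → ℂ) v).im = 0 := by nlinarith
  exact Complex.ext (by rw [h2, Complex.natCast_re]) (by rw [h4, Complex.natCast_im])

end Cfsg.Agent.Lib.BrauerTuan
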