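/-
The lemma of Brauer and Tuan: the characters of the `p`-block outside the principal `q`-block have
a signed degree sum divisible by the full power of `q`.
-/
import Mathlib
import Cfsg.Agent.Lib.Blocks.PrincipalDegree
import Cfsg.Agent.Lib.Blocks.BlockOrth
import Cfsg.Agent.Lib.BrauerReynolds.Fixed
import Cfsg.Agent.Lib.BrauerTuan.SmallValue

set_option autoImplicit false
set_option linter.unusedSectionVars false
set_option linter.style.haveILetI false

namespace Cfsg.Agent.Lib.BrauerTuan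

open scoped ComplexConjugate
open Cfsg Cfsg.Agent.Lib Finset Subgroup
open Cfsg.Agent.Lib.DefectOne
open Cfsg.Agent.Lib.BrauerReynolds
open Cfsg.Agent.Lib.SmallGroups.PrimeChar (xp xp_zero xp_one centralizer_xp)

universe u

variable {G : Type u} [Group G] [Fintype G] {p : ℕ} [hp : Fact p.Prime] {D : Setting p G}

/-- With `V = 1` an element of order divisible by `p` has order `p`. -/
theorem orderOf_eq_of_dvd (K : Frame D) {g : G} (hg : p ∣ orderOf g) : orderOf g = p := by
  have hm : orderOf (g ^ (orderOf g / p)) = p :=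
    orderOf_pow_orderOf_div (orderOf_pos g).ne' hg
  obtain ⟨c, j, hj, hc⟩ := D.exists_conj_xp hm
  have h1 : c⁻¹ * g * c ∈ centralizer ({xp p D.S.x j} : Set G) := by
    rw [mem_centralizer_singleton_iff]
    have h2 : g * g ^ (orderOf g / p) = g ^ (orderOf g / p) * g := (Commute.self_pow g _).eq
    rw [← hc] at h2
    calc c⁻¹ * g * c * xp p D.S.x j = c⁻¹ * (g * (c * xp p D.S.x j * c⁻¹)) * c := by group
      _ = c⁻¹ * (c * xp p D.S.x j * c⁻¹ * g) * c := by rw [h2]
      _ = xp p D.S.x j * (c⁻¹ * g * c) := by group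
  rw [centralizer_xp D.S.order_x hj] at h1
  have h3 := Subgroup.orderOf_dvd_natCard _ h1
  rw [card_centralizer_x, K.V_bot, Subgroup.card_bot, mul_one] at h3
  have h4 : orderOf (c⁻¹ * g * c) = orderOf g := by
    have := orderOf_injective (MulAut.conj c⁻¹).toMonoidHom (MulAut.conj c⁻¹).injective g
    simpa [MulAut.conj_apply] using this
  rw [h4] at h3
  exact Nat.dvd_antisymm h3 hg

theorem index_centralizer_of_orderOf (K : Frame D) {g : G} (hg : orderOf g = p) :
    (centralizer ({g} : Set G)).index = D.e * (1 + D.n * p) := by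
  obtain ⟨c, j, hj, rfl⟩ := D.exists_conj_xp hg
  have hcard : Nat.card (centralizer ({c * xp p D.S.x j * c⁻¹} : Set G)) = p := by
    have h1 : centralizer ({c * xp p D.S.x j * c⁻¹} : Set G) =
        (centralizer ({xp p D.S.x j} : Set G)).map (MulAut.conj c).toMonoidHom := by
      ext z
      constructor
      · intro hz
        refine mem_map.mpr ⟨c⁻¹ * z * c, ?_, by simp [MulAut.conj_apply, mul_assoc]⟩
        rw [mem_centralizer_singleton_iff] at hz ⊢
        calc c⁻¹ * z * c * xp p D.S.x j = c⁻¹ * (z * (c * xp p D.S.x j * c⁻¹)) * c := by group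
          _ = _ := by rw [hz]; group
      · intro hz
        obtain ⟨w, hw, rfl⟩ := mem_map.mp hz
        rw [mem_centralizer_singleton_iff] at hw ⊢
        simp only [MulEquiv.coe_toMonoidHom, MulAut.conj_apply]
        calc c * w * c⁻¹ * (c * xp p D.S.x j * c⁻¹) = c * (w * xp p D.S.x j) * c⁻¹ := by group
          _ = _ := by rw [hw]; group
    rw [h1, card_map_of_injective (MulAut.conj c).injective, centralizer_xp D.S.order_x hj,
      card_centralizer_x, K.V_bot, Subgroup.card_bot, mul_one]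
  have h := (centralizer ({c * xp p D.S.x j * c⁻¹} : Set G)).card_mul_index
  rw [hcard, D.card_group, K.V_bot, Subgroup.card_bot, mul_one] at h
  exact Nat.eq_of_mul_eq_mul_left hp.out.pos h

/-- The exceptional characters lie in one `q`-block. -/
theorem sameBlock_exceptional (K : Frame D) {q : ℕ} [Fact q.Prime] {M : Ideal AlgInt}
    (hM : IsPModular q M) (hqN : q ∣ D.e * (1 + D.n * p)) {θ θ' : IrrCharacter G} (hθ : θ ∈ D.B)
    (hθ' : θ' ∈ D.B) (hqθ : ¬ q ∣ degOf θ) : SameBlock M (θ : G → ℂ) (θ' : G → ℂ) := by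
  haveI := Blocks.isPModular_isPrime hM
  intro g
  have hdeg : degOf θ' = degOf θ := D.degB_eq hθ' hθ
  by_cases hg : p ∣ orderOf g
  · have hbig : ∀ ψ : IrrCharacter G, degOf ψ = degOf θ →
        MemLocalIdeal M (centralChar (ψ : G → ℂ) g) := by
      intro ψ hψ
      rw [centralChar, index_centralizer_of_orderOf K (orderOf_eq_of_dvd K hg), apply_one_eq_degOf,
        hψ, mul_div_right_comm]
      exact Blocks.memLocalIdeal_mul_right (Blocks.memLocalIdeal_natCast_div hM (degOf_pos θ).ne' (by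
        rw [Nat.factorization_eq_zero_of_not_dvd hqθ]
        exact (Fact.out : q.Prime).factorization_pos_of_dvd
          (Nat.mul_ne_zero (NeZero.ne D.e) (by omega)) hqN))
        (Blocks.isIntegral_mem_localRing (Chars.irr_isIntegral ψ g))
    exact Blocks.memLocalIdeal_sub (hbig θ rfl) (hbig θ' hdeg)
  · have hv : (θ : G → ℂ) g = (θ' : G → ℂ) g :=
      mul_left_cancel₀ (by rcases D.ε_unit with h | h <;> simp [h] : (D.ε : ℂ) ≠ 0)
        ((D.rel θ hθ g hg).trans (D.rel θ' hθ' g hg).symm)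
    rw [centralChar, centralChar, hv, apply_one_eq_degOf, apply_one_eq_degOf, hdeg, sub_self]
    exact Blocks.memLocalIdeal_zero

/-- The exceptional values at `x` add up to `-ε`. -/
theorem sum_apply_B (K : Frame D) {θ : IrrCharacter G} (hθ : θ ∈ D.B) :
    ∑ θ' ∈ D.B, (θ' : G → ℂ) D.S.x = -(D.ε : ℂ) := by
  classical
  have hx1 : (D.S.x : G) ≠ 1 := fun h => by
    have := D.S.order_x
    rw [h, orderOf_one] at this
    exact hp.out.ne_one this.symm
  have horth := Chars.column_orthogonality_of_not_isConj (g := D.S.x) (h := (1 : G))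
    (fun h => hx1 (isConj_one_left.mp h))
  have hone : (1 : ZMod p) ≠ 0 := one_ne_zero
  have hxx : D.S.x = xp p D.S.x 1 := xp_one.symm
  simp only [apply_one_eq_degOf, Complex.conj_natCast] at horth
  rw [← sum_subset (subset_univ (D.A ∪ D.B)) (fun χ _ hχ => by
    rw [mem_union, not_or] at hχ
    rw [hxx, ← K.profile_eq χ 1, D.profile_rest χ hχ.1 hχ.2 1 hone, zero_mul]),
    sum_union D.disj, sum_congr rfl (s₁ := D.A) (g := fun χ => (D.δ χ : ℂ) * (χ : G → ℂ) 1)
      (fun χ hχ => by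
        rw [hxx, D.applyA χ hχ 1 hone, apply_one_eq_degOf]),
    ← D.rel θ hθ 1 (by simpa using hp.out.ne_one),
    sum_congr rfl (s₁ := D.B) (g := fun θ' => (θ' : G → ℂ) D.S.x * (degOf θ : ℂ))
      (fun θ' hθ' => by rw [D.degB_eq hθ' hθ]), ← sum_mul, apply_one_eq_degOf] at horth
  have hd : (degOf θ : ℂ) ≠ 0 := Nat.cast_ne_zero.mpr (degOf_pos θ).ne'
  refine mul_right_cancel₀ hd ?_
  linear_combination horth

/-- The lemma of Brauer and Tuan. -/
theorem exists_outside [IsSimpleGroup G] (hna : ∃ a b : G, a * b ≠ b * a) (K : Frame D)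
    {q : ℕ} [hq : Fact q.Prime] (hqp : q ≠ p) (hqN : q ∣ D.e * (1 + D.n * p))
    (hB : ∀ θ ∈ D.B, ¬ q ∣ degOf θ) (h1A : Chars.trivialIrr G ∈ D.A)
    (hδ1 : D.δ (Chars.trivialIrr G) = 1)
    (hA : ∀ χ ∈ D.A, χ ≠ Chars.trivialIrr G → q ∣ degOf χ) :
    ∃ S : Finset (IrrCharacter G), S ⊆ D.A ∧ Chars.trivialIrr G ∉ S ∧
      (∀ χ ∈ D.A, χ ≠ Chars.trivialIrr G → ∀ k : ℕ, degOf χ = q ^ k → χ ∈ S) ∧
      (((q ^ (Nat.card G).factorization q : ℕ) : ℤ) ∣ ∑ χ ∈ S, D.δ χ * (degOf χ : ℤ)) := by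
  classical
  obtain ⟨M, hM⟩ := Glauberman.exists_isPModular hq.out
  haveI := Blocks.isPModular_isPrime hM
  set I := principalBlock M G with hI
  set one := Chars.trivialIrr G with hone
  have honeI : one ∈ I := by
    show SameBlock M (fun _ : G => (1 : ℂ)) (one : G → ℂ)
    intro g
    rw [show (one : G → ℂ) = fun _ => 1 from funext fun x => Chars.trivialIrr_apply x, sub_self]
    exact Blocks.memLocalIdeal_zero
  have hblock : IsPBlock M I := ⟨one, by
    rw [hI, principalBlock]
    congr 1⟩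
  have hpow : ∀ χ : IrrCharacter G, χ ≠ one → ∀ k : ℕ, degOf χ = q ^ k → χ ∉ I := by
    intro χ hne k hk hχI
    refine hne (Subtype.ext ?_)
    rw [Blocks.eq_one_of_principalBlock_of_degree hM hna χ hχI k (by
      rw [apply_one_eq_degOf, hk]; push_cast; rfl)]
    funext x
    rw [Chars.trivialIrr_apply]
  obtain ⟨θ, hθ⟩ : D.B.Nonempty := card_pos.mp (by rw [D.cardB]; exact D.t_pos)
  -- the sum of the block at `(x, 1)`
  let F : G → ℂ := fun h => ∑ χ ∈ I.toFinset, (χ : G → ℂ) D.S.x * conj ((χ : G → ℂ) h)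
  obtain ⟨T⟩ := (inferInstance : Nonempty (Sylow q G))
  haveI : Fintype (T : Subgroup G) := Fintype.ofFinite _
  have hxreg : ¬ q ∣ orderOf D.S.x := by
    rw [D.S.order_x]
    exact fun h => hqp ((Nat.prime_dvd_prime_iff_eq hq.out hp.out).mp h)
  have hF0 : ∀ h : (T : Subgroup G), h ≠ 1 → F h = 0 := by
    intro h hh
    have hsing : q ∣ orderOf (h : G) := by
      obtain ⟨k, hk⟩ := IsPGroup.iff_orderOf.mp T.2 h
      rw [orderOf_coe, hk]
      refine dvd_pow_self q fun h0 => hh ?_
      rw [h0, pow_zero, orderOf_eq_one_iff] at hk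
      exact hk
    have := Blocks.weak_block_orth hM hblock hxreg hsing
    rwa [finsum_mem_eq_toFinset_sum] at this
  choose m hm using fun χ : IrrCharacter G => Chars.isCharacter_classInner_nat
    (Chars.irr_isCharacter (Chars.trivialIrr (T : Subgroup G)))
    (Chars.isCharacter_comp (T : Subgroup G).subtype (Chars.irr_isCharacter χ))
  have hF1 : F 1 = (Nat.card (T : Subgroup G) : ℂ) *
      ∑ χ ∈ I.toFinset, (χ : G → ℂ) D.S.x * (m χ : ℂ) := by
    have h1 : ∑ h : (T : Subgroup G), F h = F 1 := by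
      rw [Finset.sum_eq_single (1 : (T : Subgroup G)) (fun b _ hb => hF0 b hb)
        (fun h => absurd (mem_univ _) h), OneMemClass.coe_one]
    rw [← h1, sum_comm, mul_sum]
    refine sum_congr rfl fun χ _ => ?_
    rw [← mul_sum, ← hm χ, classInner]
    simp only [Chars.trivialIrr_apply, one_mul, Subgroup.coe_subtype]
    rw [mul_left_comm, mul_inv_cancel_left₀ (Nat.cast_ne_zero.mpr Nat.card_pos.ne')]
  have hxx : D.S.x = xp p D.S.x 1 := xp_one.symm
  -- membership of the exceptional characters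
  have hBI : ∀ θ' ∈ D.B, (θ' ∈ I ↔ θ ∈ I) := by
    intro θ' hθ'
    have hs := sameBlock_exceptional K hM hqN hθ hθ' (hB θ hθ)
    have hiff : θ' ∈ blockOf M (fun _ : G => (1 : ℂ)) ↔ θ ∈ blockOf M (fun _ : G => (1 : ℂ)) := by
      simp only [blockOf, Set.mem_ofPred_eq, SameBlock]
      constructor
      · intro h g
        have := Blocks.memLocalIdeal_sub (h g) (hs g)
        convert Blocks.memLocalIdeal_add (h g) (Blocks.memLocalIdeal_neg (hs g)) using 1
        ring
      · intro h g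
        convert Blocks.memLocalIdeal_add (h g) (hs g) using 1
        ring
    exact hiff
  have hval : F 1 = ((∑ χ ∈ D.A.filter (· ∈ I), D.δ χ * (degOf χ : ℤ)) -
      (if θ ∈ I then D.ε * (degOf θ : ℤ) else 0) : ℤ) := by
    simp only [F, apply_one_eq_degOf, Complex.conj_natCast]
    rw [show ∑ χ ∈ I.toFinset, (χ : G → ℂ) D.S.x * (degOf χ : ℂ) =
      ∑ χ ∈ (univ : Finset (IrrCharacter G)).filter (· ∈ I), (χ : G → ℂ) D.S.x * (degOf χ : ℂ) from
        sum_congr (by ext; simp) fun _ _ => rfl]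
    rw [sum_filter, ← sum_subset (subset_univ (D.A ∪ D.B)) (fun χ _ hχ => by
      rw [mem_union, not_or] at hχ
      rw [hxx, ← K.profile_eq χ 1, D.profile_rest χ hχ.1 hχ.2 1 one_ne_zero, zero_mul,
        ite_self]), sum_union D.disj, ← sum_filter]
    rw [sum_congr rfl (s₁ := D.B) (g := fun θ' => if θ ∈ I then (θ' : G → ℂ) D.S.x * (degOf θ : ℂ) else 0)
      (fun θ' hθ' => by simp only [hBI θ' hθ', D.degB_eq hθ' hθ])]
    push_cast
    rw [sum_congr rfl (s₁ := D.A.filter (· ∈ I)) (g := fun χ => (D.δ χ : ℂ) * (degOf χ : ℂ))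
      (fun χ hχ => by rw [hxx, D.applyA χ (mem_filter.mp hχ).1 1 one_ne_zero])]
    split_ifs
    · rw [← sum_mul, sum_apply_B K hθ]
      ring
    · simp
  have hdvd : ((q ^ (Nat.card G).factorization q : ℕ) : ℤ) ∣
      (∑ χ ∈ D.A.filter (· ∈ I), D.δ χ * (degOf χ : ℤ)) -
        (if θ ∈ I then D.ε * (degOf θ : ℤ) else 0) := by
    rw [← T.card_eq_multiplicity]
    refine natCast_dvd_of_isIntegral_div Nat.card_pos.ne' ?_
    rw [← hval, hF1, mul_div_cancel_left₀ _ (Nat.cast_ne_zero.mpr Nat.card_pos.ne')]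
    exact IsIntegral.sum _ fun χ _ =>
      (Chars.irr_isIntegral χ _).mul isIntegral_algebraMap
  have hq1 : (q : ℤ) ∣ ((q ^ (Nat.card G).factorization q : ℕ) : ℤ) := by
    refine Int.natCast_dvd_natCast.mpr (dvd_pow_self q ?_)
    have hdiv : q ∣ Nat.card G := by
      rw [D.card_group]
      exact dvd_mul_of_dvd_right hqN _
    exact (hq.out.factorization_pos_of_dvd Nat.card_pos.ne' hdiv).ne'
  have hθI : θ ∈ I := by
    by_contra h
    rw [if_neg h, sub_zero] at hdvd
    have h2 := hq1.trans hdvd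
    rw [← add_sum_erase _ _ (mem_filter.mpr ⟨h1A, honeI⟩), hδ1, degOf_trivial] at h2
    have h3 : (q : ℤ) ∣ ∑ χ ∈ (D.A.filter (· ∈ I)).erase one, D.δ χ * (degOf χ : ℤ) :=
      dvd_sum fun χ hχ => by
        obtain ⟨hne, hχA⟩ := mem_erase.mp hχ
        exact dvd_mul_of_dvd_right
          (Int.natCast_dvd_natCast.mpr (hA χ (mem_filter.mp hχA).1 hne)) _
    have h4 := (dvd_add_left h3).mp h2
    simp only [Nat.cast_one, mul_one] at h4
    exact hq.out.ne_one (Nat.dvd_one.mp (Int.natCast_dvd_natCast.mp h4))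
  rw [if_pos hθI] at hdvd
  refine ⟨D.A.filter (· ∉ I), filter_subset _ _, fun h => (mem_filter.mp h).2 honeI,
    fun χ hχ hne k hk => mem_filter.mpr ⟨hχ, hpow χ hne k hk⟩, ?_⟩
  have hrel : D.ε * (degOf θ : ℤ) = ∑ χ ∈ D.A, D.δ χ * (degOf χ : ℤ) := by
    have h := D.rel θ hθ 1 (by simpa using hp.out.ne_one)
    simp only [apply_one_eq_degOf] at h
    exact_mod_cast h
  rw [hrel, ← sum_filter_add_sum_filter_not D.A (· ∈ I), sub_add_cancel_left, dvd_neg] at hdvd
  exact hdvd

end Cfsg.Agent.Lib.BrauerTuan
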