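/-
An exceptional degree `(p - 1) / 2` gives a character of degree `p + 1`.
-/
import Mathlib
import Cfsg.Agent.Lib.BrauerReynolds.Fixed

set_option autoImplicit false
set_option linter.unusedSectionVars false
set_option linter.style.haveILetI false

namespace Cfsg.Agent.Lib.BrauerTuan

open scoped ComplexConjugate
open Cfsg Cfsg.Agent.Lib Finset Subgroup
open Cfsg.Agent.Lib.DefectOne
open Cfsg.Agent.Lib.BrauerReynolds
open Cfsg.Agent.Lib.SmallGroups.PrimeChar (xp xp_zero fusion ne_zero_of_mem_fusion conj_stdAddChar)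

universe u

variable {G : Type u} [Group G] [Fintype G] {p : ℕ} [hp : Fact p.Prime] {D : Setting p G}

/-- The square sum of the periods. -/
theorem sum_period_norm (D : Setting p G) {a : ZMod p} (ha : a ≠ 0) :
    ∑ j : ZMod p, (∑ u ∈ fusion p D.S.x, ZMod.stdAddChar (a * u * j) : ℂ) *
      conj (∑ u ∈ fusion p D.S.x, ZMod.stdAddChar (a * u * j) : ℂ) = (p : ℂ) * D.e := by
  classical
  simp only [map_sum, conj_stdAddChar, sum_mul, mul_sum, ← AddChar.map_add_eq_mul]
  rw [sum_comm, sum_congr rfl fun u hu => by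
    rw [sum_comm, sum_congr rfl fun u' _ => by
      rw [sum_congr rfl fun j _ => by rw [show a * u' * j + -(a * u * j) = j * (a * (u' - u)) by ring],
        AddChar.sum_mulShift (a * (u' - u)) (ZMod.isPrimitive_stdAddChar p), ZMod.card]]]
  have : ∀ u u' : ZMod p, (a * (u' - u) = 0) ↔ u' = u := fun u u' => by
    rw [mul_eq_zero, sub_eq_zero]
    simp [ha]
  simp only [this, Nat.cast_ite, Nat.cast_zero, sum_ite_eq']
  rw [sum_congr rfl fun u hu => if_pos hu, sum_const, nsmul_eq_mul, D.fusion_card, mul_comm]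

/-- Some character of the block has degree `p + 1` and sign `1`. -/
theorem exists_deg_succ (hR : Reduced p G) (K : Frame D) (hε : D.ε = 1) (hte : 2 * D.e + 1 = p)
    (hdeg : ∀ θ ∈ D.B, degOf θ = D.e) (h1A : Chars.trivialIrr G ∈ D.A)
    (hδ1 : D.δ (Chars.trivialIrr G) = 1) :
    ∃ χ ∈ D.A, D.δ χ = 1 ∧ degOf χ = p + 1 := by
  classical
  obtain ⟨θ, hθ⟩ : D.B.Nonempty := card_pos.mp (by rw [D.cardB]; exact D.t_pos)
  set one := Chars.trivialIrr G with hone
  let Φ : G → ℂ := (θ : G → ℂ) * fun g => conj ((θ : G → ℂ) g)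
  have hΦ : IsCharacter G Φ :=
    Chars.isCharacter_mul (Chars.irr_isCharacter θ) (by
      simpa [funext_iff, Chars.irr_inv] using
        (show IsCharacter G (fun g => conj ((θ : G → ℂ) g)) from by
          first
          | exact Chars.isCharacter_conj (Chars.irr_isCharacter θ)
          | exact Chars.isCharacter_star (Chars.irr_isCharacter θ)))
  choose c hc using fun χ : IrrCharacter G =>
    Chars.isCharacter_classInner_nat hΦ (Chars.irr_isCharacter χ)
  have hdec : ∀ g, Φ g = ∑ χ : IrrCharacter G, (c χ : ℂ) * (χ : G → ℂ) g := by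
    intro g
    conv_lhs => rw [Chars.isCharacter_eq_sum_classInner hΦ]
    rw [Finset.sum_apply]
    exact sum_congr rfl fun χ _ => by rw [Pi.smul_apply, smul_eq_mul, hc χ]
  have hc1 : c one = 1 := by
    apply Nat.cast_injective (R := ℂ)
    rw [← hc, Nat.cast_one, ← Chars.classInner_irr_self θ]
    simp [classInner, Φ, hone, Chars.trivialIrr_apply]
  have hp0 : (p : ℂ) ≠ 0 := Nat.cast_ne_zero.mpr hp.out.ne_zero
  -- the part fixed by `⟨x⟩`
  have hfix : ∑ χ : IrrCharacter G, (c χ : ℂ) * (K.kn χ : ℂ) = (D.e : ℂ) := by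
    have hv : ∀ χ : IrrCharacter G, (K.kn χ : ℂ) =
        (p : ℂ)⁻¹ * ∑ j : ZMod p, (χ : G → ℂ) (xp p D.S.x j) := fun χ => by
      rw [K.kn_cast, Frame.val]
      simp [K.y_zero]
    rw [sum_congr rfl fun χ _ => by rw [hv χ, mul_left_comm, mul_sum], ← mul_sum, sum_comm,
      sum_congr rfl fun j _ => (hdec _).symm, inv_mul_eq_iff_eq_mul₀ hp0,
      ← add_sum_erase _ _ (mem_univ (0 : ZMod p))]
    have hper := sum_period_norm D (D.profileB θ hθ).1
    rw [← add_sum_erase _ _ (mem_univ (0 : ZMod p))] at hper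
    simp only [mul_zero, AddChar.map_zero_eq_one, sum_const, nsmul_eq_mul, mul_one, D.fusion_card,
      Complex.conj_natCast] at hper
    rw [← hper]
    refine congrArg₂ (· + ·) ?_ (sum_congr rfl fun j hj => ?_)
    · simp [Φ, xp_zero, apply_one_eq_degOf, hdeg θ hθ]
    · have h1 := D.applyB θ hθ j (ne_of_mem_erase hj)
      rw [(D.profileB θ hθ).2 j (ne_of_mem_erase hj), hε] at h1
      simp only [Φ, Pi.mul_apply, h1]
      push_cast
      rw [one_mul]
  -- the degree
  have hdegree : ∑ χ : IrrCharacter G, (c χ : ℂ) * (degOf χ : ℂ) = (D.e : ℂ) * D.e := by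
    rw [sum_congr rfl fun χ _ => by rw [← apply_one_eq_degOf], ← hdec]
    simp [Φ, apply_one_eq_degOf, hdeg θ hθ]
  have hprofA : ∀ χ ∈ D.A, ∑ j ∈ (univ : Finset (ZMod p)).erase 0, profile D.S χ j =
      ((p : ℂ) - 1) * D.δ χ := fun χ hχ => by
    rw [sum_congr rfl fun j hj => D.profileA χ hχ j (ne_of_mem_erase hj), sum_const,
      card_erase_of_mem (mem_univ _), card_univ, ZMod.card, nsmul_eq_mul, Nat.cast_sub hp.out.pos,
      Nat.cast_one]
  have hkey : ((p : ℤ) - 1) * ∑ χ ∈ D.A, (c χ : ℤ) * D.δ χ - (D.e : ℤ) * ∑ χ ∈ D.B, (c χ : ℤ) =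
      (p : ℤ) * D.e - (D.e : ℤ) * D.e := by
    suffices h : (((p : ℂ) - 1) * ∑ χ ∈ D.A, (c χ : ℂ) * D.δ χ) - (D.e : ℂ) * ∑ χ ∈ D.B, (c χ : ℂ) =
        (p : ℂ) * D.e - (D.e : ℂ) * D.e by exact_mod_cast h
    have hsum : (p : ℂ) * ∑ χ : IrrCharacter G, (c χ : ℂ) * (K.kn χ : ℂ) =
        ∑ χ : IrrCharacter G, (c χ : ℂ) * (degOf χ : ℂ) +
        ∑ χ : IrrCharacter G, (c χ : ℂ) *
          ∑ j ∈ (univ : Finset (ZMod p)).erase 0, profile D.S χ j := by
      rw [mul_sum, ← sum_add_distrib]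
      exact sum_congr rfl fun χ _ => by rw [mul_left_comm, K.p_mul_kn]; ring
    rw [hfix, hdegree, ← sum_subset (subset_univ (D.A ∪ D.B)) (fun χ _ hχ => by
      rw [mem_union, not_or] at hχ
      rw [sum_eq_zero fun j hj => D.profile_rest χ hχ.1 hχ.2 j (ne_of_mem_erase hj), mul_zero]),
      sum_union D.disj, sum_congr rfl (s₁ := D.A) (g := fun χ => ((p : ℂ) - 1) * ((c χ : ℂ) * D.δ χ))
        (fun χ hχ => by rw [hprofA χ hχ]; ring),
      sum_congr rfl (s₁ := D.B) (g := fun χ => -((D.e : ℂ) * (c χ : ℂ)))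
        (fun χ hχ => by rw [D.sum_profileB hχ, hε]; push_cast; ring),
      sum_neg_distrib, ← mul_sum, ← mul_sum] at hsum
    linear_combination -hsum
  set D' : ℤ := ∑ χ ∈ D.A.erase one, (c χ : ℤ) * D.δ χ with hD'
  have hcB : 0 ≤ ∑ χ ∈ D.B, (c χ : ℤ) := sum_nonneg fun χ _ => by positivity
  have h2 : (2 : ℤ) * D' = D.e - 1 + ∑ χ ∈ D.B, (c χ : ℤ) := by
    rw [← add_sum_erase _ _ h1A, hδ1, hc1, ← hD'] at hkey
    have he : (D.e : ℤ) ≠ 0 := by have := D.two_le_e; omega
    have hpe : (p : ℤ) = 2 * D.e + 1 := by exact_mod_cast hte.symm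
    rw [hpe] at hkey
    apply mul_left_cancel₀ he
    push_cast at hkey
    linear_combination hkey
  by_contra hno
  push Not at hno
  have hkn : ∀ χ ∈ D.A.erase one, 3 * ((c χ : ℤ) * D.δ χ) ≤ (c χ : ℤ) * (K.kn χ : ℤ) := by
    intro χ hχ
    obtain ⟨hne, hA⟩ := mem_erase.mp hχ
    rcases D.δ_unit χ hA with h | h
    · have h3 : (p : ℤ) * K.kn χ = degOf χ + ((p : ℤ) - 1) := by
        have h4 := K.p_mul_kn χ
        rw [hprofA χ hA, h] at h4
        push_cast at h4
        rw [mul_one] at h4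
        exact_mod_cast h4
      have hd : 1 < degOf χ := one_lt_degOf hR hne
      have hne2 : degOf χ ≠ p + 1 := fun hh => hno χ hA h hh
      have hk3 : 3 ≤ K.kn χ := by
        by_contra hlt
        push Not at hlt
        interval_cases hk : K.kn χ <;> omega
      rw [h, mul_one, mul_comm]
      exact mul_le_mul_of_nonneg_left (by exact_mod_cast hk3) (by positivity)
    · rw [h]
      nlinarith [Int.natCast_nonneg (c χ), Int.natCast_nonneg (K.kn χ)]
  have hk1 : K.kn one = 1 := by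
    have h4 := K.p_mul_kn one
    rw [hprofA one h1A, hδ1, degOf_trivial] at h4
    push_cast at h4
    apply Nat.cast_injective (R := ℂ)
    refine mul_left_cancel₀ hp0 ?_
    push_cast
    linear_combination h4
  have h5 : ∑ χ ∈ D.A.erase one, c χ * K.kn χ + 1 ≤ D.e := by
    have h6 : ∑ χ : IrrCharacter G, c χ * K.kn χ = D.e := by exact_mod_cast hfix
    rw [← h6, ← add_sum_erase univ _ (mem_univ one), hc1, hk1, one_mul, add_comm]
    exact Nat.add_le_add_left (sum_le_sum_of_subset (erase_subset_erase _ (subset_univ _))) _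
  have h7 : 3 * D' ≤ ((∑ χ ∈ D.A.erase one, c χ * K.kn χ : ℕ) : ℤ) := by
    rw [hD', mul_sum]
    push_cast
    exact sum_le_sum hkn
  have := D.two_le_e
  omega

end Cfsg.Agent.Lib.BrauerTuan
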