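/-
The theorem of Brauer and Tuan on simple groups of order `p q ^ b g₀` with `g₀ < p - 1`.
-/
import Mathlib
import Cfsg.Agent.S4503
import Cfsg.Agent.Lib.BrauerReynolds.Dichotomy
import Cfsg.Agent.Lib.BrauerTuan.Arith
import Cfsg.Agent.Lib.BrauerTuan.QBlock
import Cfsg.Agent.Lib.BrauerTuan.SquareSucc

set_option autoImplicit false
set_option linter.unusedSectionVars false
set_option linter.style.haveILetI false

namespace Cfsg.Agent.Lib.BrauerTuan

open scoped ComplexConjugate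
open Cfsg Cfsg.Agent.Lib Finset Subgroup
open Cfsg.Agent.Lib.DefectOne
open Cfsg.Agent.Lib.BrauerReynolds

universe u

variable {G : Type u} [Group G] [Fintype G] {p : ℕ} [hp : Fact p.Prime]

theorem sq_degOf_lt {χ : IrrCharacter G} (hne : χ ≠ Chars.trivialIrr G) :
    degOf χ * degOf χ < Nat.card G := by
  classical
  have h : ∑ ψ : IrrCharacter G, degOf ψ * degOf ψ = Nat.card G := by
    apply Nat.cast_injective (R := ℂ)
    push_cast
    rw [← Chars.sum_degree_sq]
    exact sum_congr rfl fun ψ _ => by rw [apply_one_eq_degOf, sq]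
  have h2 := sum_le_sum_of_subset (f := fun ψ : IrrCharacter G => degOf ψ * degOf ψ)
    (subset_univ ({χ, Chars.trivialIrr G} : Finset (IrrCharacter G)))
  rw [sum_pair hne, h, degOf_trivial] at h2
  omega

/-- The degree relation at the identity. -/
theorem degree_relation (D : Setting p G) {θ : IrrCharacter G} (hθ : θ ∈ D.B) :
    D.ε * (degOf θ : ℤ) = ∑ χ ∈ D.A, D.δ χ * (degOf χ : ℤ) := by
  have h := D.rel θ hθ 1 (by simpa using hp.out.ne_one)
  simp only [apply_one_eq_degOf] at h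
  exact_mod_cast h

/-- The common facts. -/
structure Facts (D : Setting p G) (q b g₀ : ℕ) : Prop where
  two_le_t : 2 ≤ D.t
  one_mem : Chars.trivialIrr G ∈ D.A
  one_sign : D.δ (Chars.trivialIrr G) = 1
  dvd_A : ∀ χ ∈ D.A, χ ≠ Chars.trivialIrr G → q ∣ degOf χ
  V_bot : D.S.V = ⊥
  prod : D.e * (1 + D.n * p) = g₀ * q ^ b
  not_dvd : ¬ q ∣ g₀
  deg_B : ∀ θ ∈ D.B, degOf θ = g₀
  b_pos : 0 < b
  cases : (D.ε = 1 ∧ 2 * D.e + 1 = p ∧ g₀ = D.e) ∨ (D.ε = -1 ∧ g₀ + D.e = p)

theorem not_dvd_e (D : Setting p G) : ¬ p ∣ D.e := fun h => by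
  have h1 := D.e_lt
  have h2 := D.two_le_e
  have := Nat.le_of_dvd (by omega) h
  omega

theorem facts [IsSimpleGroup G] (hR : Reduced p G) (D : Setting p G) {q b g₀ : ℕ} (hq : q.Prime)
    (hqp : q ≠ p) (hcard : Nat.card G = p * q ^ b * g₀) (hqg : ¬ q ∣ g₀) (hg : g₀ < p - 1) :
    Facts D q b g₀ := by
  classical
  set one := Chars.trivialIrr G with hone
  have hp2 := hp.out.two_le
  have hg0 : 0 < g₀ := Nat.pos_of_ne_zero fun h => hqg (h ▸ dvd_zero q)
  have hpg : ¬ p ∣ g₀ := fun h => by have := Nat.le_of_dvd hg0 h; omega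
  have hVN : Nat.card D.S.V * (D.e * (1 + D.n * p)) = g₀ * q ^ b := by
    have h := D.card_group
    rw [hcard, mul_assoc, mul_assoc] at h
    rw [Nat.eq_of_mul_eq_mul_left hp.out.pos h.symm, mul_comm]
  have hn := D.n_pos hR
  have hN : p + 1 ≤ D.e * (1 + D.n * p) := by
    have h1 : 1 * (1 + D.n * p) ≤ D.e * (1 + D.n * p) :=
      Nat.mul_le_mul_right _ (by have := D.two_le_e; omega)
    have h2 : 1 * p ≤ D.n * p := Nat.mul_le_mul_right p hn
    omega
  have hb : 0 < b := by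
    refine Nat.pos_of_ne_zero fun h => ?_
    rw [h, pow_zero, mul_one] at hVN
    have := Nat.le_of_dvd hg0 (Dvd.intro_left _ hVN)
    omega
  have hdvd : ∀ χ : IrrCharacter G, χ ∈ D.A ∪ D.B → ¬ q ∣ degOf χ → degOf χ ∣ g₀ := by
    intro χ hχ hnq
    have h1 : degOf χ ∣ D.e * (1 + D.n * p) := by
      rcases mem_union.mp hχ with h | h
      exacts [D.dvdA χ h, D.dvdB χ h]
    exact ((hq.coprime_iff_not_dvd.mpr hnq).symm.pow_right b).dvd_of_dvd_mul_right
      (h1.trans (Dvd.intro_left _ hVN))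
  have hsmall : ∀ (f : ℕ) (s : ℤ), 1 < f → f < p - 1 → (s = 1 ∨ s = -1) →
      ¬ (f : ℤ) ≡ s [ZMOD p] := by
    intro f s h1 h2 hs hc
    have h3 : (p : ℤ) ∣ (f : ℤ) - s := (Int.modEq_iff_dvd.mp hc.symm)
    have h4 := Int.eq_zero_of_abs_lt_dvd h3 (by
      rw [abs_lt]; rcases hs with rfl | rfl <;> omega)
    rcases hs with rfl | rfl <;> omega
  have hA : ∀ χ ∈ D.A, χ ≠ one → q ∣ degOf χ := by
    intro χ hχ hne
    by_contra h
    have h1 := Nat.le_of_dvd hg0 (hdvd χ (mem_union_left _ hχ) h)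
    exact hsmall _ _ (one_lt_degOf hR hne) (by omega) (D.δ_unit χ hχ) (D.congrA χ hχ)
  have ht : 2 ≤ D.t := by
    by_contra hlt
    have ht : D.t = 1 := by have := D.t_pos; omega
    have he : (D.e : ℤ) ≡ -1 [ZMOD p] := by
      have h1 := D.het
      rw [ht, mul_one] at h1
      rw [Int.modEq_iff_dvd, h1, Nat.cast_sub (by omega), Nat.cast_one]
      exact ⟨-1, by ring⟩
    obtain ⟨θ, hB⟩ := card_eq_one.mp (D.cardB.trans ht)
    have hθ : θ ∈ D.B := hB ▸ mem_singleton_self θ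
    have hrel := degree_relation D hθ
    have hqsum : (q : ℤ) ∣ ∑ χ ∈ D.A.erase one, D.δ χ * (degOf χ : ℤ) := dvd_sum fun χ hχ =>
      dvd_mul_of_dvd_right (Int.natCast_dvd_natCast.mpr
        (hA χ (mem_erase.mp hχ).2 (mem_erase.mp hχ).1)) _
    have hq1 : ¬ (q : ℤ) ∣ 1 := fun h => hq.ne_one (Nat.dvd_one.mp (Int.natCast_dvd_natCast.mp h))
    rcases mem_union.mp D.triv_mem with h | h
    · have hδ : D.δ one = 1 := by
        have h' := D.profileA one h 1 one_ne_zero
        rw [profile_trivial] at h'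
        exact_mod_cast h'.symm
      have hθne : θ ≠ one := fun hh => disjoint_left.mp D.disj h (show one ∈ D.B from hh ▸ hθ)
      have hqθ : q ∣ degOf θ := by
        by_contra hnq
        have h1 := Nat.le_of_dvd hg0 (hdvd θ (mem_union_right _ hθ) hnq)
        refine hsmall _ (-D.ε) (one_lt_degOf hR hθne) (by omega)
          (by rcases D.ε_unit with h2 | h2 <;> simp [h2]) ?_
        simpa using (D.congrB θ hθ).trans (he.mul_left D.ε)
      rw [← add_sum_erase _ _ h, hδ, degOf_trivial, Nat.cast_one, mul_one] at hrel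
      refine hq1 ((dvd_add_left hqsum).mp ?_)
      rw [← hrel]
      exact dvd_mul_of_dvd_right (Int.natCast_dvd_natCast.mpr hqθ) _
    · rw [hB, mem_singleton] at h
      have hA' : one ∉ D.A := fun hh => disjoint_left.mp D.disj hh (show one ∈ D.B by rw [show one = θ from h]; exact hθ)
      rw [← show one = θ from h, hone, degOf_trivial] at hrel
      rw [erase_eq_of_notMem hA', ← hrel] at hqsum
      rcases D.ε_unit with h2 | h2 <;> rw [h2] at hqsum <;> simp at hqsum <;> exact hq1 hqsum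
  obtain ⟨h1A, hδ1⟩ := D.trivial_mem_A ht
  have hθne : ∀ θ ∈ D.B, θ ≠ one := fun θ hθ hh => disjoint_left.mp D.disj h1A (show one ∈ D.B from hh ▸ hθ)
  obtain ⟨θ, hθ⟩ : D.B.Nonempty := card_pos.mp (by rw [D.cardB]; exact D.t_pos)
  have hqθ : ¬ q ∣ degOf θ := by
    intro h
    have hrel := degree_relation D hθ
    rw [← add_sum_erase _ _ h1A, hδ1, degOf_trivial, Nat.cast_one, mul_one] at hrel
    have h1 : (q : ℤ) ∣ 1 + ∑ χ ∈ D.A.erase one, D.δ χ * (degOf χ : ℤ) := by
      rw [← hrel]; exact dvd_mul_of_dvd_right (Int.natCast_dvd_natCast.mpr h) _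
    refine hq.ne_one (Nat.dvd_one.mp (Int.natCast_dvd_natCast.mp ((dvd_add_left ?_).mp h1)))
    exact dvd_sum fun χ hχ => dvd_mul_of_dvd_right (Int.natCast_dvd_natCast.mpr
      (hA χ (mem_erase.mp hχ).2 (mem_erase.mp hχ).1)) _
  have hθg := hdvd θ (mem_union_right _ hθ) hqθ
  have hθle := Nat.le_of_dvd hg0 hθg
  have hV := V_eq_bot_of_deg_lt D (mem_union_right _ hθ) (hθne θ hθ) (by omega)
  rw [hV, Subgroup.card_bot, one_mul] at hVN
  have het := D.het
  have h2e : D.e * 2 ≤ p - 1 := het ▸ Nat.mul_le_mul_left _ ht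
  have hd1 := one_lt_degOf hR (hθne θ hθ)
  have hcongr := Int.modEq_iff_dvd.mp (D.congrB θ hθ)
  have hmultiple : g₀ < 2 * degOf θ → g₀ = degOf θ := by
    intro h
    obtain ⟨r, hr⟩ := hθg
    rcases r with _ | _ | r
    · omega
    · simpa using hr
    · have : degOf θ * 2 ≤ degOf θ * (r + 1 + 1) := Nat.mul_le_mul_left _ (by omega)
      omega
  rcases D.ε_unit with hε | hε <;> rw [hε] at hcongr
  · have hθe : degOf θ = D.e := by
      have := Int.eq_zero_of_abs_lt_dvd hcongr (by rw [abs_lt]; omega)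
      omega
    have hfaith : ∀ g : G, (θ : G → ℂ) g = (θ : G → ℂ) 1 → g = 1 := fun g hg =>
      faithful_of_ne_trivial (hθne θ hθ) hg
    have hdeg : charDegree (θ : G → ℂ) = D.e := by
      rw [← hθe]
      apply Nat.cast_injective (R := ℂ)
      rw [← (Chars.charDegree_spec θ).2, apply_one_eq_degOf]
    have hb' := Cfsg.Agent.S4503.result p hp.out D.dvd_card (by
        intro h
        rw [hcard, pow_two, mul_assoc] at h
        rcases hp.out.dvd_mul.mp (Nat.dvd_of_mul_dvd_mul_left hp.out.pos h) with h' | h'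
        · exact hqp ((Nat.prime_dvd_prime_iff_eq hp.out hq).mp (hp.out.dvd_of_dvd_pow h')).symm
        · exact hpg h')
      (fun H hH h => by
        rcases hH.eq_bot_or_eq_top with h' | h' <;> rw [h'] at h
        · rw [Subgroup.card_bot] at h; omega
        · rw [Subgroup.card_top, hcard] at h
          have h1 : p * 2 * 1 ≤ p * q ^ b * g₀ :=
            Nat.mul_le_mul (Nat.mul_le_mul_left _ (hq.two_le.trans (Nat.le_self_pow hb.ne' q))) hg0
          omega)
      (θ : G → ℂ) (Chars.irr_isCharacter θ) hfaith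
    rw [hdeg] at hb'
    have hge : g₀ = D.e := (hmultiple (by omega)).trans hθe
    exact ⟨ht, h1A, hδ1, hA, hV, hVN, hqg, fun θ' hθ' => by rw [D.degB_eq hθ' hθ, hθe, hge], hb,
      Or.inl ⟨hε, by omega, hge⟩⟩
  · have hθe : degOf θ + D.e = p := by
      have h1 : p ∣ degOf θ + D.e := by
        rw [← Int.natCast_dvd_natCast]
        convert hcongr.neg_right using 1 <;> first | rfl | (push_cast; ring)
      obtain ⟨r, hr⟩ := h1
      rcases r with _ | _ | r
      · have := D.two_le_e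
        simp at hr
        omega
      · simpa using hr
      · have : p * 2 ≤ p * (r + 1 + 1) := Nat.mul_le_mul_left _ (by omega)
        omega
    have hge : g₀ = degOf θ := hmultiple (by omega)
    exact ⟨ht, h1A, hδ1, hA, hV, hVN, hqg, fun θ' hθ' => by rw [D.degB_eq hθ' hθ, hge], hb,
      Or.inr ⟨hε, by omega⟩⟩

theorem exists_two_pow_odd {f a b : ℕ} (ha : Odd a) (hf : 0 < f) (h : f ∣ a * 2 ^ b) :
    ∃ k c, Odd c ∧ c ∣ a ∧ f = 2 ^ k * c := by
  obtain ⟨k, c, hc, rfl⟩ := Nat.exists_eq_two_pow_mul_odd hf.ne'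
  exact ⟨k, c, hc, ((Nat.coprime_two_right.mpr hc).pow_right b).dvd_of_dvd_mul_right
    (dvd_trans (dvd_mul_left c _) h), rfl⟩

theorem sum_eq_zero_of_small {ι : Type*} (S : Finset ι) (v : ι → ℤ) {M B : ℕ}
    (hdvd : (M : ℤ) ∣ ∑ i ∈ S, v i) (hv : ∀ i ∈ S, |v i| ≤ (B : ℤ)) (hlt : S.card * B < M) :
    ∑ i ∈ S, v i = 0 := by
  refine Int.eq_zero_of_abs_lt_dvd hdvd ?_
  refine lt_of_le_of_lt (abs_sum_le_sum_abs _ _) (lt_of_le_of_lt (sum_le_sum hv) ?_)
  rw [sum_const, nsmul_eq_mul]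
  exact_mod_cast hlt

theorem abs_sign_mul (D : Setting p G) {χ : IrrCharacter G} (hχ : χ ∈ D.A) :
    |D.δ χ * (degOf χ : ℤ)| = (degOf χ : ℤ) := by
  rcases D.δ_unit χ hχ with h | h <;> simp [h]

theorem card_outside_le (D : Setting p G) {S : Finset (IrrCharacter G)} (hS : S ⊆ D.A)
    (h1 : Chars.trivialIrr G ∈ D.A) (h2 : Chars.trivialIrr G ∉ S) : S.card + 1 ≤ D.e := by
  classical
  have := card_le_card (insert_subset h1 hS)
  rwa [card_insert_of_notMem h2, D.cardA] at this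

theorem n_eq_one [IsSimpleGroup G] (hna : ∃ a b : G, a * b ≠ b * a) (hR : Reduced p G)
    {D : Setting p G} {q b g₀ : ℕ} [hq : Fact q.Prime] (hqp : q ≠ p) (hodd : p ≠ 2)
    (hcard : Nat.card G = p * q ^ b * g₀) (W : Facts D q b g₀) (hε : D.ε = 1) :
    (∃ K : Frame D, D.n = 1 ∧ D.t = 2) ∧ ∃ m, p + 1 = 2 ^ m := by
  classical
  obtain ⟨K⟩ := exists_frame D W.V_bot
  obtain ⟨hte, hge⟩ : 2 * D.e + 1 = p ∧ g₀ = D.e := by
    rcases W.cases with ⟨-, h⟩ | ⟨h, -⟩
    · exact h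
    · omega
  subst hge
  have he2 := D.two_le_e
  have ht2 : D.t = 2 := by
    have h := D.het
    refine Nat.eq_of_mul_eq_mul_left (show 0 < D.e by omega) ?_
    omega
  obtain ⟨χ₀, hχ₀, -, hdeg₀⟩ := exists_deg_succ hR K hε hte W.deg_B W.one_mem W.one_sign
  have hχ₀ne : χ₀ ≠ Chars.trivialIrr G := fun h => by
    rw [h, degOf_trivial] at hdeg₀; omega
  have hgcd : Nat.gcd (p + 1) D.e ∣ 2 := by
    have h1 := Nat.gcd_dvd_left (p + 1) D.e
    have h2 := Nat.gcd_dvd_right (p + 1) D.e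
    rw [show p + 1 = 2 * D.e + 2 by omega] at h1 h2 ⊢
    exact (Nat.dvd_add_right (h2.mul_left 2)).mp h1
  have hdiv : p + 1 ∣ 2 * q ^ b := by
    have h1 : p + 1 ∣ D.e * q ^ b := by rw [← W.prod, ← hdeg₀]; exact D.dvdA χ₀ hχ₀
    exact (Nat.dvd_gcd_mul_iff_dvd_mul.mpr h1).trans (Nat.mul_dvd_mul_right hgcd _)
  have hq2 : q = 2 := by
    by_contra hne
    haveI : Fact (Nat.Prime 2) := ⟨Nat.prime_two⟩
    have hqo : Odd q := hq.out.odd_of_ne_two hne
    have hdvd2 : 2 ∣ Nat.card G := by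
      have h1 : p + 1 ∣ D.e * (1 + D.n * p) := hdeg₀ ▸ D.dvdA χ₀ hχ₀
      rw [D.card_group]
      exact dvd_mul_of_dvd_right ((dvd_trans ⟨D.e + 1, by omega⟩ h1)) _
    let T : Sylow 2 K.comp := default
    have hT : Nat.card ((T : Subgroup K.comp).map K.comp.subtype) =
        2 ^ (Nat.card G).factorization 2 := by
      rw [card_map_of_injective K.comp.subtype_injective, Sylow.card_eq_multiplicity, K.card_comp,
        hcard, Nat.factorization_mul (Nat.mul_ne_zero hp.out.ne_zero (pow_ne_zero _ hq.out.ne_zero))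
          (NeZero.ne D.e), Nat.factorization_mul hp.out.ne_zero (pow_ne_zero _ hq.out.ne_zero)]
      simp [Nat.factorization_eq_zero_of_not_dvd (n := q) (p := 2) (by
          rw [Nat.two_dvd_ne_zero, ← Nat.odd_iff]; exact hqo),
        Nat.factorization_eq_zero_of_not_dvd (n := p) (p := 2) (by
          rw [Nat.two_dvd_ne_zero, ← Nat.odd_iff]; exact hp.out.odd_of_ne_two hodd)]
    let T' : Sylow 2 G := Sylow.ofCard _ hT
    refine not_isCyclic_sylow_two hR hdvd2 T' ?_
    rw [show (T' : Subgroup G) = (T : Subgroup K.comp).map K.comp.subtype from Sylow.coe_ofCard _ _]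
    haveI : IsCyclic K.comp := by rw [K.comp_eq_zpowers]; exact isCyclic_zpowers _
    exact isCyclic_of_surjective _
      (K.comp.subtype.subgroupMap_surjective (T : Subgroup K.comp))
  subst hq2
  obtain ⟨m, -, hm⟩ := (Nat.dvd_prime_pow Nat.prime_two).mp
    (show p + 1 ∣ 2 ^ (b + 1) by rw [pow_succ']; exact hdiv)
  have hm3 : 3 ≤ m := by
    by_contra h
    have := Nat.pow_le_pow_right (show 1 ≤ 2 by norm_num) (show m ≤ 2 by omega)
    omega
  have hm1 : 2 ^ m = 2 * 2 ^ (m - 1) := by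
    rw [← pow_succ']; congr 1; omega
  have hF : 1 + D.n * p = 2 ^ b :=
    Nat.eq_of_mul_eq_mul_left (show 0 < D.e by omega) W.prod
  have hb1 : (2 : ℤ) ^ b ≡ 1 [ZMOD p] := by
    rw [Int.modEq_iff_dvd, show (2 : ℤ) ^ b = ((1 + D.n * p : ℕ) : ℤ) by rw [hF]; push_cast; rfl]
    exact ⟨-D.n, by push_cast; ring⟩
  obtain ⟨s, rfl⟩ := dvd_of_two_pow_modEq_mersenne hm (by omega) hb1
  have hs0 : s ≠ 0 := fun h => by have := W.b_pos; rw [h, mul_zero] at this; omega
  refine ⟨⟨K, ?_, ht2⟩, m, hm⟩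
  by_cases hs1 : s = 1
  · rw [hs1, mul_one, ← hm] at hF
    exact Nat.eq_of_mul_eq_mul_right hp.out.pos (show D.n * p = 1 * p by omega)
  exfalso
  have hs2 : 2 ≤ s := by omega
  have heo : Odd D.e := ⟨2 ^ (m - 1) / 2 - 1, by
    have h4 : 4 ∣ 2 ^ (m - 1) :=
      (pow_dvd_pow 2 (show 2 ≤ m - 1 by omega))
    omega⟩
  have hGcard : Nat.card G = p * D.e * 2 ^ (m * s) := by rw [hcard]; ring
  have hclass : ∀ χ ∈ D.A, χ ≠ Chars.trivialIrr G →
      ∃ j, (D.δ χ = 1 ∧ degOf χ = 2 ^ (m * j)) ∨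
        (D.δ χ = -1 ∧ degOf χ = (2 ^ m - 2) * 2 ^ (m * j)) := by
    intro χ hχ _
    obtain ⟨k, a, hao, hae, hka⟩ := exists_two_pow_odd heo (degOf_pos χ)
      (by rw [← W.prod]; exact D.dvdA χ hχ)
    rw [hka]
    exact degree_mersenne hm (by omega) hao
      (le_trans (Nat.le_of_dvd (by omega) hae) (by omega)) (D.δ_unit χ hχ)
      (by have := D.congrA χ hχ; rw [hka] at this; push_cast at this; exact this)
  have hbound : ∀ χ ∈ D.A, χ ≠ Chars.trivialIrr G → degOf χ ≤ 2 ^ (m * (s - 1)) := by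
    intro χ hχ hne
    have hsq := sq_degOf_lt hne
    rw [hGcard] at hsq
    obtain ⟨j, ⟨-, hj⟩ | ⟨-, hj⟩⟩ := hclass χ hχ hne <;> rw [hj] at hsq ⊢
    · refine Nat.pow_le_pow_right (by norm_num) (Nat.mul_le_mul_left m ?_)
      by_contra hlt
      have h1 : 2 ^ (m * s) ≤ 2 ^ (m * j) :=
        Nat.pow_le_pow_right (by norm_num) (Nat.mul_le_mul_left m (by omega))
      have h2 : 2 ^ (m * 2) ≤ 2 ^ (m * s) :=
        Nat.pow_le_pow_right (by norm_num) (Nat.mul_le_mul_left m hs2)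
      have h3 : p * D.e ≤ 2 ^ m * 2 ^ m := Nat.mul_le_mul (by omega) (by omega)
      have h4 : 2 ^ (m * 2) = 2 ^ m * 2 ^ m := by rw [← pow_add]; congr 1; ring
      have h5 : p * D.e * 2 ^ (m * s) ≤ 2 ^ (m * j) * 2 ^ (m * j) :=
        Nat.mul_le_mul (by omega) h1
      omega
    · have hj' : j + 2 ≤ s := by
        by_contra hlt
        have h1 : 2 ^ (m * s) ≤ 2 ^ (m * j) * 2 ^ (m * j) := by
          rw [← pow_add, ← mul_add]
          exact Nat.pow_le_pow_right (by norm_num) (Nat.mul_le_mul_left m (by omega))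
        rw [show 2 ^ m - 2 = 2 * D.e by omega] at hsq
        have h2 : p * D.e ≤ 2 * D.e * (2 * D.e) := by
          rw [show 2 * D.e * (2 * D.e) = (4 * D.e) * D.e by ring]
          exact Nat.mul_le_mul_right _ (by omega)
        have h3 := Nat.mul_le_mul h2 h1
        rw [show 2 * D.e * (2 * D.e) * (2 ^ (m * j) * 2 ^ (m * j)) =
          2 * D.e * 2 ^ (m * j) * (2 * D.e * 2 ^ (m * j)) by ring] at h3
        omega
      calc (2 ^ m - 2) * 2 ^ (m * j) ≤ 2 ^ m * 2 ^ (m * j) := Nat.mul_le_mul_right _ (by omega)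
        _ = 2 ^ (m * (j + 1)) := by rw [← pow_add]; congr 1; ring
        _ ≤ _ := Nat.pow_le_pow_right (by norm_num) (Nat.mul_le_mul_left m (by omega))
  obtain ⟨S, hSA, hS1, hSpow, hSdvd⟩ := exists_outside hna K hqp
    (by rw [W.prod]; exact dvd_mul_of_dvd_right (dvd_pow_self 2 W.b_pos.ne') _)
    (fun θ hθ => by rw [W.deg_B θ hθ]; exact W.not_dvd) W.one_mem W.one_sign W.dvd_A
  have hfac : (Nat.card G).factorization 2 = m * s := by
    rw [hGcard, Nat.factorization_mul (Nat.mul_ne_zero hp.out.ne_zero (by omega))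
      (by positivity), Nat.factorization_mul hp.out.ne_zero (by omega), Nat.prime_two.factorization_pow]
    simp [Nat.factorization_eq_zero_of_not_dvd (n := D.e) (p := 2) W.not_dvd,
      Nat.factorization_eq_zero_of_not_dvd (n := p) (p := 2) (by
        rw [Nat.two_dvd_ne_zero, ← Nat.odd_iff]; exact hp.out.odd_of_ne_two hodd)]
  rw [hfac] at hSdvd
  have hcardS := card_outside_le D hSA W.one_mem hS1
  have hzero := sum_eq_zero_of_small S _ hSdvd (B := 2 ^ (m * (s - 1)))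
    (fun χ hχ => by
      rw [abs_sign_mul D (hSA hχ)]
      exact_mod_cast hbound χ (hSA hχ) (fun h => hS1 (by rw [h] at hχ; exact hχ))) (by
      calc S.card * 2 ^ (m * (s - 1)) < 2 ^ m * 2 ^ (m * (s - 1)) :=
            Nat.mul_lt_mul_of_pos_right (by omega) (Nat.two_pow_pos _)
        _ = 2 ^ (m * s) := by
          rw [← pow_add, add_comm, ← Nat.mul_succ, show (s - 1).succ = s by omega])
  have hempty := eq_empty_of_sum_eq_zero S (fun χ => D.δ χ * (degOf χ : ℤ)) (σ := 1) (Or.inl rfl)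
    (Q := 2 ^ m) (by omega) (fun χ hχ => by
      obtain ⟨j, ⟨hd, hj⟩ | ⟨hd, hj⟩⟩ := hclass χ (hSA hχ) (fun h => hS1 (by rw [h] at hχ; exact hχ))
      · exact ⟨j, 1, 0, le_rfl, by norm_num, by rw [hd, hj, pow_mul]; push_cast; ring⟩
      · refine ⟨j, 2, -1, by norm_num, le_rfl, ?_⟩
        rw [hd, hj, Nat.cast_mul, Nat.cast_sub (by omega), pow_mul]
        push_cast; ring) hzero
  have := hSpow χ₀ hχ₀ hχ₀ne m (by rw [hdeg₀, hm])
  rw [hempty] at this
  exact Finset.notMem_empty _ this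

set_option maxHeartbeats 1000000 in
theorem exists_outcome_neg [IsSimpleGroup G] (hna : ∃ a b : G, a * b ≠ b * a) (hR : Reduced p G)
    {D : Setting p G} {q b g₀ : ℕ} [hq : Fact q.Prime] (hqp : q ≠ p) (hodd : p ≠ 2)
    (hcard : Nat.card G = p * q ^ b * g₀) (W : Facts D q b g₀) (hε : D.ε = -1) :
    Outcome p G ∧ ∃ m, p = 2 ^ m + 1 := by
  classical
  obtain ⟨K⟩ := exists_frame D W.V_bot
  have hge : g₀ + D.e = p := by
    rcases W.cases with ⟨h, -⟩ | ⟨-, h⟩
    · omega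
    · exact h
  have he2 := D.two_le_e
  have hep := D.e_lt
  have hepdvd : D.e ∣ p - 1 := Dvd.intro D.t D.het
  obtain ⟨θ, hθ⟩ : D.B.Nonempty := card_pos.mp (by rw [D.cardB]; exact D.t_pos)
  set one := Chars.trivialIrr G with hone
  have hrel : -(g₀ : ℤ) = 1 + ∑ χ ∈ D.A.erase one, D.δ χ * (degOf χ : ℤ) := by
    have h := degree_relation D hθ
    rw [hε, W.deg_B θ hθ, ← add_sum_erase _ _ W.one_mem, W.one_sign, degOf_trivial] at h
    simpa using h
  have hcop : Nat.Coprime D.e g₀ := by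
    have h1 : Nat.Coprime D.e p := (hp.out.coprime_iff_not_dvd.mpr (not_dvd_e D)).symm
    have h1' : Nat.Coprime D.e (g₀ + D.e) := by rw [hge]; exact h1
    exact Nat.coprime_add_self_right.mp h1'
  obtain ⟨c, -, hc⟩ := (Nat.dvd_prime_pow hq.out).mp
    (hcop.dvd_of_dvd_mul_left (show D.e ∣ g₀ * q ^ b from W.prod ▸ dvd_mul_right _ _))
  have hc0 : c ≠ 0 := fun h => by rw [h, pow_zero] at hc; omega
  have hqe : q ∣ D.e := hc ▸ dvd_pow_self q hc0
  have hqsum : ∀ χ ∈ D.A.erase one, q ∣ degOf χ := fun χ hχ =>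
    W.dvd_A χ (mem_erase.mp hχ).2 (mem_erase.mp hχ).1
  have hq2 : q = 2 := by
    have h1 : (q : ℤ) ∣ ((g₀ + 1 : ℕ) : ℤ) := by
      have h2 : (q : ℤ) ∣ ∑ χ ∈ D.A.erase one, D.δ χ * (degOf χ : ℤ) := dvd_sum fun χ hχ =>
        dvd_mul_of_dvd_right (Int.natCast_dvd_natCast.mpr (hqsum χ hχ)) _
      convert h2.neg_right using 1 <;> first | rfl | (push_cast; linarith)
    have h3 : q ∣ g₀ + 1 := Int.natCast_dvd_natCast.mp h1
    have h4 : q ∣ (p - 1) + 2 := by
      rw [show p - 1 + 2 = g₀ + 1 + D.e by omega]; exact h3.add hqe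
    exact (Nat.prime_dvd_prime_iff_eq hq.out Nat.prime_two).mp
      ((Nat.dvd_add_right (hqe.trans hepdvd)).mp h4)
  subst hq2
  have hg₀odd : Odd g₀ := Nat.not_even_iff_odd.mp fun h => W.not_dvd h.two_dvd
  have hb2 : (2 : ℤ) ^ b ≡ -1 [ZMOD p] := by
    rw [Int.modEq_iff_dvd]
    have h1 : (D.e : ℤ) * (1 + D.n * p) = (g₀ : ℤ) * 2 ^ b := by exact_mod_cast W.prod
    have h2 : (g₀ : ℤ) = (p : ℤ) - D.e := by
      have : ((g₀ + D.e : ℕ) : ℤ) = (p : ℤ) := by rw [hge]
      push_cast at this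
      linarith
    rw [h2] at h1
    have hcp : IsCoprime (p : ℤ) (D.e : ℤ) := by
      rw [Int.isCoprime_iff_gcd_eq_one, Int.gcd_natCast_natCast]
      exact hp.out.coprime_iff_not_dvd.mpr (not_dvd_e D)
    exact hcp.dvd_of_dvd_mul_left ⟨(D.e : ℤ) * D.n - 2 ^ b, by linear_combination -h1⟩
  have hcs := card_erase_of_mem W.one_mem
  rw [D.cardA] at hcs
  have hqN : 2 ∣ D.e * (1 + D.n * p) := dvd_mul_of_dvd_left hqe _
  obtain ⟨S, hSA, hS1, hSpow, hSdvd⟩ := exists_outside hna K hqp hqN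
    (fun θ hθ => by rw [W.deg_B θ hθ]; exact W.not_dvd) W.one_mem W.one_sign W.dvd_A
  have hfac : (Nat.card G).factorization 2 = b := by
    rw [hcard, Nat.factorization_mul (Nat.mul_ne_zero hp.out.ne_zero (by positivity)) (by omega),
      Nat.factorization_mul hp.out.ne_zero (by positivity), Nat.prime_two.factorization_pow]
    simp [Nat.factorization_eq_zero_of_not_dvd (n := g₀) (p := 2) W.not_dvd,
      Nat.factorization_eq_zero_of_not_dvd (n := p) (p := 2) (by
        rw [Nat.two_dvd_ne_zero, ← Nat.odd_iff]; exact hp.out.odd_of_ne_two hodd)]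
  rw [hfac] at hSdvd
  by_cases hc1 : c = 1
  · -- `e = 2`
    rw [hc1, pow_one] at hc
    obtain ⟨χ, hχs⟩ := card_eq_one.mp (show (D.A.erase one).card = 1 from hcs.trans (by omega))
    have hχ : χ ∈ D.A.erase one := hχs ▸ mem_singleton_self χ
    obtain ⟨hne, hχA⟩ := mem_erase.mp hχ
    rw [hχs, sum_singleton] at hrel
    obtain ⟨hδ, hdeg⟩ : D.δ χ = -1 ∧ degOf χ = p - 1 := by
      rcases D.δ_unit χ hχA with h | h <;> rw [h] at hrel
      · omega
      · exact ⟨h, by omega⟩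
    obtain ⟨k, a, hao, hag, hka⟩ := exists_two_pow_odd hg₀odd (degOf_pos χ)
      (by rw [← W.prod]; exact D.dvdA χ hχA)
    have ha1 : a = 1 := by
      have h1 : a ∣ g₀ + 1 := by
        rw [show g₀ + 1 = degOf χ by omega, hka]
        exact dvd_mul_left a _
      exact Nat.dvd_one.mp ((Nat.dvd_add_right hag).mp h1)
    rw [ha1, mul_one] at hka
    have hS : S = {χ} := by
      refine Finset.eq_singleton_iff_unique_mem.mpr ⟨hSpow χ hχA hne k hka, fun ψ hψ => ?_⟩
      have : ψ ∈ D.A.erase one := mem_erase.mpr ⟨fun h => hS1 (by rw [h] at hψ; exact hψ), hSA hψ⟩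
      rw [hχs] at this
      exact mem_singleton.mp this
    rw [hS, sum_singleton, hδ, neg_one_mul, dvd_neg, Int.natCast_dvd_natCast, hka,
      Nat.pow_dvd_pow_iff_le_right (by norm_num)] at hSdvd
    have hk0 : 1 ≤ k := by
      rcases k with _ | k
      · simp at hka; omega
      · omega
    obtain ⟨s, hs⟩ := exists_of_two_pow_modEq_fermat (show p = 2 ^ k + 1 by omega) hk0 hb2
    have hbk : b = k := by
      have : k * 1 ≤ k * (2 * s + 1) := Nat.mul_le_mul_left _ (by omega)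
      omega
    have het := D.het
    have hnt : D.n + 1 = D.t := by
      have h1 := W.prod
      rw [hc, hbk, show g₀ = 2 * D.t - 1 by rw [hc] at het; omega,
        show 2 ^ k = 2 * D.t by rw [hc] at het; omega] at h1
      obtain ⟨t', ht'⟩ : ∃ t', D.t = t' + 1 := ⟨D.t - 1, by have := W.two_le_t; omega⟩
      have hp' : p = 2 * t' + 3 := by rw [hc, ht'] at het; omega
      rw [ht', show 2 * (t' + 1) - 1 = 2 * t' + 1 by omega] at h1
      refine Nat.eq_of_mul_eq_mul_right hp.out.pos ?_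
      rw [ht']
      nlinarith [congrArg (fun z => (t' + 1) * z) hp', hp']
    have hplus : D.plus = ∅ := by
      refine Finset.eq_empty_of_forall_notMem fun ψ hψ => ?_
      unfold Setting.plus at hψ
      simp only [mem_filter, mem_erase] at hψ
      have : ψ ∈ D.A.erase one := mem_erase.mpr ⟨hψ.1.1, hψ.1.2⟩
      rw [hχs, mem_singleton] at this
      rw [this, hδ] at hψ
      omega
    let Wb : Block K :=
      { k := 1
        two_le_t := W.two_le_t
        reduced := hR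
        hclass := fun ψ hψ hψne => by
          have : ψ ∈ D.A.erase one := mem_erase.mpr ⟨hψne, hψ⟩
          rw [hχs, mem_singleton] at this
          exact Or.inr ⟨this ▸ hδ, this ▸ hdeg⟩
        count := by rw [hc, hplus, Finset.card_empty, zero_mul]; norm_num
        cases := Or.inr ⟨hε, Nat.one_pos, by rw [one_mul]; exact hnt, fun θ' hθ' => by
          rw [W.deg_B θ' hθ', one_mul]; exact hge⟩ }
    exact ⟨Wb.case_two hodd hε, k, by omega⟩
  -- `4 ∣ e`
  have h4e : 4 ∣ D.e := hc ▸ pow_dvd_pow 2 (show 2 ≤ c by omega)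
  obtain ⟨χ₁, hχ₁, h4⟩ : ∃ χ ∈ D.A.erase one, ¬ 4 ∣ degOf χ := by
    by_contra h
    push Not at h
    have h1 : (4 : ℤ) ∣ ((g₀ + 1 : ℕ) : ℤ) := by
      have h2 : (4 : ℤ) ∣ ∑ χ ∈ D.A.erase one, D.δ χ * (degOf χ : ℤ) := dvd_sum fun χ hχ =>
        dvd_mul_of_dvd_right (by exact_mod_cast h χ hχ) _
      convert h2.neg_right using 1 <;> first | rfl | (push_cast; linarith)
    have h3 : 4 ∣ g₀ + 1 := by exact_mod_cast h1
    have h4 : 4 ∣ p - 1 := h4e.trans hepdvd
    omega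
  obtain ⟨a, ha⟩ := hqsum χ₁ hχ₁
  have hao : Odd a := Nat.not_even_iff_odd.mp fun h => h4 (by
    rw [ha]; obtain ⟨r, rfl⟩ := h; exact ⟨r, by ring⟩)
  have hag : a ∣ g₀ := by
    have h1 : a ∣ g₀ * 2 ^ b := (Dvd.intro_left 2 ha.symm).trans (W.prod ▸ D.dvdA χ₁ (mem_erase.mp hχ₁).2)
    exact ((Nat.coprime_two_right.mpr hao).pow_right b).dvd_of_dvd_mul_right h1
  have hale := Nat.le_of_dvd (by obtain ⟨r, hr⟩ := hg₀odd; omega) hag
  have h2a : 2 * a + 1 = p ∨ 2 * a = p + 1 := by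
    have hcg := Int.modEq_iff_dvd.mp (D.congrA χ₁ (mem_erase.mp hχ₁).2)
    have hgt := one_lt_degOf hR (mem_erase.mp hχ₁).1
    obtain ⟨r, hr⟩ := hcg
    have hb1 : (1 : ℤ) < 2 * a := by rw [ha] at hgt; exact_mod_cast hgt
    have hb2' : (2 * a : ℤ) + 4 ≤ 2 * p := by omega
    rcases D.δ_unit χ₁ (mem_erase.mp hχ₁).2 with h | h <;> rw [h, ha] at hr <;> push_cast at hr
    · right
      have hr0 : r < 0 := by
        by_contra hcon
        have := mul_nonneg (Int.natCast_nonneg p) (not_lt.mp hcon)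
        omega
      have hr2 : r > -2 := by
        by_contra hcon
        have := mul_le_mul_of_nonneg_left (not_lt.mp hcon) (Int.natCast_nonneg p)
        omega
      obtain rfl : r = -1 := by omega
      omega
    · left
      have hr0 : r < 0 := by
        by_contra hcon
        have := mul_nonneg (Int.natCast_nonneg p) (not_lt.mp hcon)
        omega
      have hr2 : r > -2 := by
        by_contra hcon
        have := mul_le_mul_of_nonneg_left (not_lt.mp hcon) (Int.natCast_nonneg p)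
        omega
      obtain rfl : r = -1 := by omega
      omega
  have hga : g₀ = a := by
    obtain ⟨r, hr⟩ := hag
    rcases r with _ | _ | _ | r
    · simp at hr; omega
    · simpa using hr
    · exfalso
      obtain ⟨u, hu⟩ := hg₀odd
      omega
    · exfalso
      have : a * 3 ≤ a * (r + 1 + 1 + 1) := Nat.mul_le_mul_left _ (by omega)
      omega
  have hte : 2 * D.e + 1 = p := by
    rcases h2a with h | h
    · exfalso
      have h5 : D.e ∣ 2 := by
        have h6 : D.e ∣ (p - 1) + 2 := ⟨2, by omega⟩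
        exact (Nat.dvd_add_right hepdvd).mp h6
      have := Nat.le_of_dvd (by norm_num) (h4e.trans h5)
      omega
    · omega
  have ht2 : D.t = 2 := by
    have h := D.het
    refine Nat.eq_of_mul_eq_mul_left (show 0 < D.e by omega) ?_
    omega
  have hm : p = 2 ^ (c + 1) + 1 := by rw [pow_succ', ← hc]; omega
  have hg0 : g₀ = D.e + 1 := by omega
  refine ⟨?_, c + 1, hm⟩
  set m := c + 1 with hmdef
  have hm1 : 2 ^ (m - 1) = D.e := by rw [hc]; congr 1
  have hm2 : 2 ^ m = 2 * D.e := by rw [hmdef, pow_succ', hc]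
  obtain ⟨s, hbs⟩ := exists_of_two_pow_modEq_fermat hm (by omega) hb2
  refine outcome_of_n_one K ?_ ht2
  by_cases hs0 : s = 0
  · have hb' : 2 ^ b = 2 * D.e := by rw [hbs, hs0, ← hm2]; congr 1; ring
    have h1 := W.prod
    rw [hb', hg0, show (D.e + 1) * (2 * D.e) = D.e * (p + 1) by
      rw [show p + 1 = 2 * D.e + 2 by omega]; ring] at h1
    have h2 := Nat.eq_of_mul_eq_mul_left (show 0 < D.e by omega) h1
    exact Nat.eq_of_mul_eq_mul_right hp.out.pos (show D.n * p = 1 * p by omega)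
  exfalso
  set Q := 2 ^ m with hQ
  have hclass : ∀ χ ∈ D.A, χ ≠ one → ∃ j, D.δ χ = (-1) ^ j ∧
      (degOf χ = Q ^ j ∨ degOf χ = (Q + 2) * Q ^ j) := by
    intro χ hχ _
    obtain ⟨k, a', hao', hag', hka⟩ := exists_two_pow_odd hg₀odd (degOf_pos χ)
      (by rw [← W.prod]; exact D.dvdA χ hχ)
    obtain ⟨j, hj1, hj2⟩ := degree_fermat hm (by omega) hao'
      (le_trans (Nat.le_of_dvd (by omega) hag') (by omega)) (D.δ_unit χ hχ)
      (by have := D.congrA χ hχ; rw [hka] at this; push_cast at this; exact this)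
    refine ⟨j, hj1, ?_⟩
    rw [hka, hQ, ← pow_mul]
    exact hj2
  have hGcard : Nat.card G = p * g₀ * Q ^ (2 * s + 1) := by
    rw [hcard, hbs, hQ, ← pow_mul]; ring
  have hQ4 : 4 ≤ Q := by rw [hm2]; omega
  have hbound : ∀ χ ∈ D.A, χ ≠ one → degOf χ ≤ 2 * Q ^ (2 * s) := by
    intro χ hχ hne
    have hsq := sq_degOf_lt hne
    rw [hGcard] at hsq
    obtain ⟨j, -, hj | hj⟩ := hclass χ hχ hne <;> rw [hj] at hsq ⊢
    · have hjs : j ≤ 2 * s := by
        by_contra hlt
        have h1 : Q ^ (2 * s + 1) ≤ Q ^ j := Nat.pow_le_pow_right (by omega) (by omega)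
        have h3 : Q ^ 3 ≤ Q ^ j := Nat.pow_le_pow_right (by omega) (by omega)
        have h2 : p * g₀ ≤ Q ^ 3 := by
          rw [show Q ^ 3 = (Q * Q) * Q by ring]
          exact Nat.mul_le_mul (by
            have : 4 * Q ≤ Q * Q := Nat.mul_le_mul_right Q hQ4
            omega) (by omega)
        have h4 : p * g₀ * Q ^ (2 * s + 1) ≤ Q ^ j * Q ^ j := Nat.mul_le_mul (h2.trans h3) h1
        omega
      calc Q ^ j ≤ Q ^ (2 * s) := Nat.pow_le_pow_right (by omega) hjs
        _ ≤ _ := Nat.le_mul_of_pos_left _ (by norm_num)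
    · have hjs : j ≤ s := by
        by_contra hlt
        have h1 : Q ^ (2 * s + 1) ≤ Q ^ j * Q ^ j := by
          rw [← pow_add]; exact Nat.pow_le_pow_right (by omega) (by omega)
        have h2 : p * g₀ ≤ (Q + 2) * (Q + 2) := Nat.mul_le_mul (by omega) (by omega)
        have h3 := Nat.mul_le_mul h2 h1
        rw [show (Q + 2) * (Q + 2) * (Q ^ j * Q ^ j) = (Q + 2) * Q ^ j * ((Q + 2) * Q ^ j) by ring] at h3
        omega
      calc (Q + 2) * Q ^ j ≤ (2 * Q) * Q ^ j := Nat.mul_le_mul_right _ (by omega)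
        _ = 2 * Q ^ (j + 1) := by ring
        _ ≤ _ := Nat.mul_le_mul_left _ (Nat.pow_le_pow_right (by omega) (by omega))
  have hcardS := card_outside_le D hSA W.one_mem hS1
  rw [show b = m * (2 * s + 1) from hbs, pow_mul, ← hQ] at hSdvd
  have hzero := sum_eq_zero_of_small S _ hSdvd (B := 2 * Q ^ (2 * s))
    (fun χ hχ => by
      rw [abs_sign_mul D (hSA hχ)]
      exact_mod_cast hbound χ (hSA hχ) (fun h => hS1 (by rw [h] at hχ; exact hχ))) (by
      rw [pow_succ', ← mul_assoc]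
      exact Nat.mul_lt_mul_of_pos_right (by omega) (pow_pos (by omega) _))
  have hempty := eq_empty_of_sum_eq_zero S (fun χ => D.δ χ * (degOf χ : ℤ)) (σ := -1) (Or.inr rfl)
    (Q := Q) (by omega) (fun χ hχ => by
      obtain ⟨j, hd, hj | hj⟩ := hclass χ (hSA hχ) (fun h => hS1 (by rw [h] at hχ; exact hχ))
      · exact ⟨j, 1, 0, le_rfl, by norm_num, by rw [hd, hj]; push_cast; ring⟩
      · exact ⟨j, 2, 1, by norm_num, le_rfl, by rw [hd, hj]; push_cast; ring⟩) hzero
  have hdvd : ∀ χ ∈ D.A.erase one, g₀ ∣ degOf χ := by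
    intro χ hχ
    obtain ⟨hne, hχA⟩ := mem_erase.mp hχ
    obtain ⟨j, -, hj | hj⟩ := hclass χ hχA hne
    · exfalso
      have := hSpow χ hχA hne (m * j) (by rw [hj, hQ, ← pow_mul])
      rw [hempty] at this
      exact Finset.notMem_empty _ this
    · rw [hj]
      exact dvd_mul_of_dvd_left ⟨2, by omega⟩ _
  have h1 : (g₀ : ℤ) ∣ 1 := by
    have h2 : (g₀ : ℤ) ∣ ∑ χ ∈ D.A.erase one, D.δ χ * (degOf χ : ℤ) := dvd_sum fun χ hχ =>
      dvd_mul_of_dvd_right (Int.natCast_dvd_natCast.mpr (hdvd χ hχ)) _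
    exact (dvd_add_left h2).mp (hrel ▸ dvd_neg.mpr dvd_rfl)
  have := Nat.dvd_one.mp (Int.natCast_dvd_natCast.mp h1)
  omega

end Cfsg.Agent.Lib.BrauerTuan
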