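/-
The conclusion of the theorem of Brauer and Tuan.
-/
import Mathlib
import Cfsg.Agent.Lib.BrauerReynolds.Corollaries
import Cfsg.Agent.Lib.BrauerTuan.Main

set_option autoImplicit false
set_option linter.unusedSectionVars false
set_option linter.style.haveILetI false

namespace Cfsg.Agent.Lib.BrauerTuan

open Cfsg Cfsg.Agent.Lib Subgroup
open Cfsg.Agent.Lib.BrauerReynolds

universe u

variable {G : Type u} [Group G] [Finite G]

theorem not_isMulCommutative [IsSimpleGroup G] (hG : ¬ IsCyclic G) : ¬ IsMulCommutative G := by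
  intro h
  letI : CommGroup G := { (inferInstance : Group G) with mul_comm := h.1.comm }
  exact hG IsSimpleGroup.isCyclic

theorem reduced_of_simple [IsSimpleGroup G] (hG : ¬ IsMulCommutative G) {p : ℕ} [Fact p.Prime]
    (hdvd : p ∣ Nat.card G) : Reduced p G where
  perfect := by
    rcases (inferInstance : (commutator G).Normal).eq_bot_or_eq_top with h | h
    · exact absurd ⟨⟨fun a b => (Subgroup.commutator_eq_bot_iff_le_centralizer.mp h
        (Subgroup.mem_top a)) b (Subgroup.mem_top b) |>.symm⟩⟩ hG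
    · exact h
  core := fun N hN hp => by
    rcases hN.eq_bot_or_eq_top with h | h
    · exact h
    · exact absurd (by rw [h, Subgroup.card_top]; exact hdvd) hp

theorem simple_order [IsSimpleGroup G] (hG : ¬ IsMulCommutative G) {p q b g₀ : ℕ} (hp : p.Prime)
    (hq : q.Prime) (hqp : q ≠ p) (hcard : Nat.card G = p * q ^ b * g₀) (hg : g₀ < p - 1) :
    (∃ (F : Type) (_ : Field F) (_ : Fintype F), Fintype.card F = p ∧ 3 < p ∧
      2 * Nat.card G = (p + 1) * (p * (p - 1)) ∧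
      (∃ m, p = 2 ^ m + 1 ∨ p + 1 = 2 ^ m) ∧
      Nonempty (G ≃* Matrix.ProjectiveSpecialLinearGroup (Fin 2) F)) ∨
    (∃ (m : ℕ) (F : Type) (_ : Field F) (_ : Fintype F), Fintype.card F = 2 ^ m ∧ p = 2 ^ m + 1 ∧
      3 < p ∧ Nat.card G = p * ((p - 1) * (p - 2)) ∧
      Nonempty (G ≃* Matrix.ProjectiveSpecialLinearGroup (Fin 2) F)) := by
  classical
  haveI := Fintype.ofFinite G
  haveI : Fact p.Prime := ⟨hp⟩
  haveI : Fact q.Prime := ⟨hq⟩
  have hp2 := hp.two_le
  have hg0 : g₀ ≠ 0 := fun h => by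
    rw [h, mul_zero] at hcard
    exact Nat.card_pos.ne' hcard
  obtain ⟨r, g₁, hq1, rfl⟩ := Nat.exists_eq_pow_mul_and_not_dvd hg0 q hq.ne_one
  have hg1 : g₁ < p - 1 := lt_of_le_of_lt (Nat.le_mul_of_pos_left _ (pow_pos hq.pos r)) hg
  have hcard' : Nat.card G = p * q ^ (b + r) * g₁ := by rw [hcard]; ring
  have hdvd : p ∣ Nat.card G := by rw [hcard, mul_assoc]; exact dvd_mul_right _ _
  have hR := reduced_of_simple hG hdvd
  have hfac : (Nat.card G).factorization p = 1 := by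
    have h1 : g₁ ≠ 0 := fun h => hq1 (h ▸ dvd_zero q)
    rw [hcard', Nat.factorization_mul (Nat.mul_ne_zero hp.ne_zero (pow_ne_zero _ hq.ne_zero)) h1,
      Nat.factorization_mul hp.ne_zero (pow_ne_zero _ hq.ne_zero), hq.factorization_pow]
    simp [hp.factorization_self, hqp,
      Nat.factorization_eq_zero_of_not_dvd (n := g₁) (p := p) fun h => by
        have := Nat.le_of_dvd (Nat.pos_of_ne_zero h1) h; omega]
  obtain ⟨P⟩ := (inferInstance : Nonempty (Sylow p G))
  have hP : Nat.card P = p := by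
    show Nat.card (P : Subgroup G) = p
    rw [Sylow.card_eq_multiplicity, hfac, pow_one]
  obtain ⟨n, hn⟩ : ∃ n, Nat.card (Sylow p G) = 1 + n * p := by
    have h1 := card_sylow_modEq_one p G
    have h2 : 1 ≤ Nat.card (Sylow p G) := Nat.card_pos
    obtain ⟨j, hj⟩ := (Nat.modEq_iff_dvd' h2).mp h1.symm
    exact ⟨j, by rw [mul_comm]; omega⟩
  obtain ⟨D, -, -⟩ := exists_setting hR P hP n hn
  have hodd : p ≠ 2 := fun h => by
    have : g₁ ≠ 0 := fun h => hq1 (h ▸ dvd_zero q)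
    omega
  have hna : ∃ a b : G, a * b ≠ b * a := by
    by_contra h
    push Not at h
    exact hG ⟨⟨h⟩⟩
  have W := facts hR D hq hqp hcard' hq1 hg1
  obtain ⟨hout, hm⟩ : Outcome p G ∧ ∃ m, p = 2 ^ m + 1 ∨ p + 1 = 2 ^ m := by
    rcases D.ε_unit with hε | hε
    · obtain ⟨⟨K, hn1, ht⟩, m, hm⟩ := n_eq_one hna hR hqp hodd hcard' W hε
      exact ⟨outcome_of_n_one K hn1 ht, m, Or.inr hm⟩
    · obtain ⟨hout, m, hm⟩ := exists_outcome_neg hna hR hqp hodd hcard' W hε
      exact ⟨hout, m, Or.inl hm⟩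
  rcases hout with ⟨hp5, -, hS, hGc⟩ | ⟨Q, z, hQ, hpQ, hGc, hz, hCz, hall⟩
  · left
    exact ⟨ZMod p, inferInstance, inferInstance, ZMod.card p, by omega, hGc, hm,
      SmallGroups.PSLTwo.nonempty_mulEquiv_PSL hG (ZMod.card p) (by omega) hGc hS⟩
  · right
    have hq4 := five_le_of_pow hQ
    obtain ⟨F, iF, iFt, hF, ⟨f⟩⟩ := nonempty_mulEquiv_SL hQ (by rw [hGc, hpQ]) hz hCz hall
    obtain ⟨c, hc2, rfl⟩ := hQ
    obtain ⟨g⟩ := @nonempty_SL_equiv_PSL F iF iFt c hF (by omega)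
    refine ⟨c, F, iF, iFt, hF, hpQ, by omega, ?_, ⟨f.trans g⟩⟩
    rw [hGc, show p - 1 = 2 ^ c by omega, show p - 2 = 2 ^ c - 1 by omega]

end Cfsg.Agent.Lib.BrauerTuan
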