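/-
Tools for small orders: the principal `q`-block at an element of prime order, pairs of conjugate
involutions with a product of prime order, and the block with one exceptional character.
-/
import Mathlib
import Cfsg.Agent.Lib.Blocks.PrincipalDegree
import Cfsg.Agent.Lib.Blocks.BlockOrth
import Cfsg.Agent.Lib.BrauerReynolds.Fixed
import Cfsg.Agent.Lib.BrauerTuan.SmallValue

set_option autoImplicit false
set_option linter.unusedSectionVars false
set_option linter.style.haveILetI false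

namespace Cfsg.Agent.Lib.BrauerTuan

open scoped ComplexConjugate
open Cfsg Cfsg.Agent.Lib Finset Subgroup
open Cfsg.Agent.Lib.DefectOne
open Cfsg.Agent.Lib.BrauerReynolds
open Cfsg.Agent.Lib.SmallGroups.PrimeChar (xp xp_one)

universe u

variable {G : Type u} [Group G] [Fintype G]

section QBlock

variable {q : ℕ} [hq : Fact q.Prime] {M : Ideal AlgInt}

theorem trivial_mem_principal [M.IsPrime] : Chars.trivialIrr G ∈ principalBlock M G := by
  show SameBlock M (fun _ : G => (1 : ℂ)) (Chars.trivialIrr G : G → ℂ)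
  intro g
  rw [show (Chars.trivialIrr G : G → ℂ) = fun _ => 1 from funext fun x => Chars.trivialIrr_apply x,
    sub_self]
  exact Blocks.memLocalIdeal_zero

theorem notMem_principal_of_pow [IsSimpleGroup G] (hna : ∃ a b : G, a * b ≠ b * a) [M.IsPrime]
    (hM : IsPModular q M) {χ : IrrCharacter G} (hne : χ ≠ Chars.trivialIrr G) {k : ℕ}
    (hk : degOf χ = q ^ k) : χ ∉ principalBlock M G := by
  intro hχI
  refine hne (Subtype.ext ?_)
  rw [Blocks.eq_one_of_principalBlock_of_degree hM hna χ hχI k (by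
    rw [apply_one_eq_degOf, hk]; push_cast; rfl)]
  funext x
  rw [Chars.trivialIrr_apply]

open Classical in
theorem principal_orth [M.IsPrime] (hM : IsPModular q M) {x : G} (hx : ¬ q ∣ orderOf x)
    (T : Finset (IrrCharacter G))
    (hT : ∀ χ ∈ principalBlock M G, χ ∉ T → (χ : G → ℂ) x = 0) {h : G} (hh : q ∣ orderOf h) :
    ∑ χ ∈ T.filter (· ∈ principalBlock M G), (χ : G → ℂ) x * conj ((χ : G → ℂ) h) = 0 := by
  have hblock : IsPBlock M (principalBlock M G) := ⟨Chars.trivialIrr G, by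
    rw [principalBlock]
    congr 1⟩
  have := Blocks.weak_block_orth hM hblock hx hh
  rw [finsum_mem_eq_toFinset_sum] at this
  refine Eq.trans (sum_subset (fun χ hχ => Set.mem_toFinset.mpr (mem_filter.mp hχ).2) ?_) this
  intro χ hχ hχT
  rw [hT χ (Set.mem_toFinset.mp hχ) (fun h => hχT (mem_filter.mpr ⟨h, Set.mem_toFinset.mp hχ⟩)), zero_mul]

open Classical in
theorem principal_dvd [M.IsPrime] (hM : IsPModular q M) {x : G} (hx : ¬ q ∣ orderOf x)
    (T : Finset (IrrCharacter G))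
    (hT : ∀ χ ∈ principalBlock M G, χ ∉ T → (χ : G → ℂ) x = 0) {z : ℤ}
    (hz : ∑ χ ∈ T.filter (· ∈ principalBlock M G), (χ : G → ℂ) x * (degOf χ : ℂ) = (z : ℂ)) :
    ((q ^ (Nat.card G).factorization q : ℕ) : ℤ) ∣ z := by
  obtain ⟨S⟩ := (inferInstance : Nonempty (Sylow q G))
  haveI : Fintype (S : Subgroup G) := Fintype.ofFinite _
  choose m hm using fun χ : IrrCharacter G => Chars.isCharacter_classInner_nat
    (Chars.irr_isCharacter (Chars.trivialIrr (S : Subgroup G)))
    (Chars.isCharacter_comp (S : Subgroup G).subtype (Chars.irr_isCharacter χ))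
  let F : G → ℂ := fun h =>
    ∑ χ ∈ T.filter (· ∈ principalBlock M G), (χ : G → ℂ) x * conj ((χ : G → ℂ) h)
  have hF0 : ∀ h : (S : Subgroup G), h ≠ 1 → F h = 0 := by
    intro h hne
    refine principal_orth hM hx T hT ?_
    obtain ⟨k, hk⟩ := IsPGroup.iff_orderOf.mp S.2 h
    rw [orderOf_coe, hk]
    refine dvd_pow_self q fun h0 => hne ?_
    rw [h0, pow_zero, orderOf_eq_one_iff] at hk
    exact hk
  have hF1 : F 1 = (Nat.card (S : Subgroup G) : ℂ) *
      ∑ χ ∈ T.filter (· ∈ principalBlock M G), (χ : G → ℂ) x * (m χ : ℂ) := by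
    have h1 : ∑ h : (S : Subgroup G), F h = F 1 := by
      rw [Finset.sum_eq_single (1 : (S : Subgroup G)) (fun b _ hb => hF0 b hb)
        (fun h => absurd (mem_univ _) h), OneMemClass.coe_one]
    rw [← h1, sum_comm, mul_sum]
    refine sum_congr rfl fun χ _ => ?_
    rw [← mul_sum, ← hm χ, classInner]
    simp only [Chars.trivialIrr_apply, one_mul, Subgroup.coe_subtype]
    rw [mul_left_comm, mul_inv_cancel_left₀ (Nat.cast_ne_zero.mpr Nat.card_pos.ne')]
  have hval : F 1 = (z : ℂ) := by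
    simp only [F, apply_one_eq_degOf, Complex.conj_natCast]
    exact hz
  rw [← S.card_eq_multiplicity]
  refine natCast_dvd_of_isIntegral_div Nat.card_pos.ne' ?_
  rw [← hval, hF1, mul_div_cancel_left₀ _ (Nat.cast_ne_zero.mpr Nat.card_pos.ne')]
  exact IsIntegral.sum _ fun χ _ => (Chars.irr_isIntegral χ _).mul isIntegral_algebraMap

end QBlock

variable {p : ℕ} [hp : Fact p.Prime]

/-- Pairs of conjugates of `t` with a product conjugate to `x`. -/
theorem pairs_dvd {x t : G} (hx : orderOf x = p) (hC : Nat.card (centralizer ({x} : Set G)) = p)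
    (ht : t * t = 1) (hCt : ¬ p ∣ Nat.card (centralizer ({t} : Set G))) :
    ∃ k : ℕ, (Nat.card G : ℂ) * ∑ χ : IrrCharacter G,
        (χ : G → ℂ) t ^ 2 * conj ((χ : G → ℂ) x) / (χ : G → ℂ) 1 =
      (p * (Nat.card (centralizer ({t} : Set G)) * Nat.card (centralizer ({t} : Set G))) * k : ℕ) := by
  classical
  set C := centralizer ({t} : Set G) with hCdef
  let W := {v : G // IsConj (t * (v * t * v⁻¹)) x}
  have hti : t⁻¹ = t := inv_eq_of_mul_eq_one_right ht
  have hconjC : ∀ c : C, (c : G) * t * (c : G)⁻¹ = t := fun c => by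
    rw [mem_centralizer_singleton_iff.mp c.2]; group
  have hmove : ∀ (c : C × C) (v : G),
      t * ((c.1 : G) * v * (c.2 : G)⁻¹ * t * ((c.1 : G) * v * (c.2 : G)⁻¹)⁻¹) =
        (c.1 : G) * (t * (v * t * v⁻¹)) * (c.1 : G)⁻¹ := by
    intro c v
    have h1 := hconjC c.2⁻¹
    rw [Subgroup.coe_inv, inv_inv] at h1
    calc t * ((c.1 : G) * v * (c.2 : G)⁻¹ * t * ((c.1 : G) * v * (c.2 : G)⁻¹)⁻¹)
        = t * ((c.1 : G) * v * ((c.2 : G)⁻¹ * t * (c.2 : G)) * v⁻¹ * (c.1 : G)⁻¹) := by group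
      _ = (c.1 : G) * t * (c.1 : G)⁻¹ * ((c.1 : G) * (v * t * v⁻¹) * (c.1 : G)⁻¹) := by
          rw [h1, hconjC c.1]; group
      _ = _ := by group
  letI act : MulAction (C × C) W :=
    { smul := fun c v => ⟨(c.1 : G) * v.1 * (c.2 : G)⁻¹, by
        rw [hmove]
        exact (isConj_iff.mpr ⟨(c.1 : G), rfl⟩).symm.trans v.2⟩
      one_smul := fun v => Subtype.ext (by show (1 : G) * v.1 * (1 : G)⁻¹ = v.1; group)
      mul_smul := fun a b v => Subtype.ext (by
        show ((a.1 * b.1 : C) : G) * v.1 * ((a.2 * b.2 : C) : G)⁻¹ =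
          (a.1 : G) * ((b.1 : G) * v.1 * (b.2 : G)⁻¹) * (a.2 : G)⁻¹
        push_cast; group) }
  have hfree : ∀ (c : C × C) (v : W), c • v = v → c = 1 := by
    intro c v hcv
    have h0 : (c.1 : G) * v.1 * (c.2 : G)⁻¹ = v.1 := congrArg Subtype.val hcv
    have h1 := hmove c v.1
    rw [h0] at h1
    obtain ⟨d, hd⟩ := isConj_iff.mp v.2
    have h2 : d * (c.1 : G) * d⁻¹ ∈ centralizer ({x} : Set G) := by
      rw [mem_centralizer_singleton_iff, ← hd]
      conv_rhs => rw [h1]
      group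
    have h3 := Subgroup.orderOf_dvd_natCard _ h2
    rw [hC] at h3
    have h4 : orderOf (d * (c.1 : G) * d⁻¹) = orderOf (c.1 : G) := by
      have := orderOf_injective (MulAut.conj d).toMonoidHom (MulAut.conj d).injective (c.1 : G)
      simpa [MulAut.conj_apply] using this
    rw [h4] at h3
    have h5 := Subgroup.orderOf_dvd_natCard _ c.1.2
    have h6 : (c.1 : G) = 1 := orderOf_eq_one_iff.mp (Nat.eq_one_of_dvd_coprimes
      (hp.out.coprime_iff_not_dvd.mpr hCt) h3 h5)
    rw [h6, one_mul] at h0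
    exact Prod.ext (Subtype.ext h6) (Subtype.ext (by simpa using h0))
  obtain ⟨k, hk⟩ : Nat.card (C × C) ∣ Nat.card W := by
    refine ⟨Nat.card (Quotient (MulAction.orbitRel (C × C) W)), ?_⟩
    rw [mul_comm, ← Nat.card_prod]
    refine Nat.card_congr (MulAction.selfEquivSigmaOrbits (C × C) W |>.trans
      ((Equiv.sigmaCongrRight fun o => ?_).trans (Equiv.sigmaEquivProd _ _)))
    refine (Equiv.ofBijective (fun c : C × C => (⟨c • o.out, MulAction.mem_orbit _ c⟩ :
      MulAction.orbit (C × C) o.out)) ⟨fun a b h => ?_, fun ⟨w, c, hc⟩ => ⟨c, Subtype.ext hc⟩⟩).symm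
    have h' : a • o.out = b • o.out := congrArg Subtype.val h
    have := hfree (b⁻¹ * a) o.out (by rw [mul_smul, h', inv_smul_smul])
    rwa [inv_mul_eq_one, eq_comm] at this
  rw [Nat.card_prod] at hk
  refine ⟨k, ?_⟩
  rw [show p * (Nat.card C * Nat.card C) * k = p * Nat.card W by rw [hk]; ring, mul_sum]
  have hterm : ∀ χ : IrrCharacter G, (Nat.card G : ℂ) *
      ((χ : G → ℂ) t ^ 2 * conj ((χ : G → ℂ) x) / (χ : G → ℂ) 1) =
      ∑ v : G, (χ : G → ℂ) (t * (v * t * v⁻¹)) * conj ((χ : G → ℂ) x) := fun χ => by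
    rw [← Finset.sum_mul, Blocks.sum_irr_mul_conj]
    ring
  rw [sum_congr rfl fun χ _ => hterm χ, sum_comm, sum_congr rfl fun v _ => by
    rw [column_sum]]
  have hcol : ∀ v : G, (((univ.filter fun g : G => g * (t * (v * t * v⁻¹)) * g⁻¹ = x).card : ℕ) : ℂ) =
      if IsConj (t * (v * t * v⁻¹)) x then (p : ℂ) else 0 := by
    intro v
    refine Eq.trans (by convert card_transporter (t * (v * t * v⁻¹)) x) ?_
    by_cases h : IsConj (t * (v * t * v⁻¹)) x
    · rw [Chars.classIndicator, if_pos h, if_pos h, mul_one]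
      obtain ⟨d, hd⟩ := isConj_iff.mp h
      rw [Nat.cast_inj, ← hC]
      refine Nat.card_congr ((MulAut.conj d).toEquiv.subtypeEquiv fun w => ?_)
      simp only [MulEquiv.toEquiv_eq_coe, EquivLike.coe_coe, MulAut.conj_apply, mem_centralizer_singleton_iff,
        ← hd]
      constructor
      · intro hw
        calc d * w * d⁻¹ * (d * (t * (v * t * v⁻¹)) * d⁻¹) = d * (w * (t * (v * t * v⁻¹))) * d⁻¹ := by group
          _ = _ := by rw [hw]; group
      · intro hw
        calc w * (t * (v * t * v⁻¹))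
            = d⁻¹ * (d * w * d⁻¹ * (d * (t * (v * t * v⁻¹)) * d⁻¹)) * d := by group
          _ = _ := by rw [hw]; group
    · rw [Chars.classIndicator, if_neg h, if_neg h, mul_zero]
  rw [sum_congr rfl fun v _ => hcol v, ← sum_filter, sum_const, nsmul_eq_mul, Nat.cast_mul, mul_comm]
  congr 1
  rw [Nat.cast_inj, ← Nat.card_eq_finsetCard]
  exact Nat.card_congr (Equiv.subtypeEquivRight fun v => by simp)

theorem apply_eq_zero_of_coprime [IsSimpleGroup G] (hna : ∃ a b : G, a * b ≠ b * a)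
    {χ : IrrCharacter G} (hne : χ ≠ Chars.trivialIrr G) {g : G} (hg : g ≠ 1)
    (hcop : Nat.Coprime (centralizer ({g} : Set G)).index (degOf χ)) : (χ : G → ℂ) g = 0 := by
  classical
  obtain ⟨n, ρ, hρ, hρχ⟩ := Chars.irr_exists_rep χ
  have hfin : Module.finrank ℂ (Fin n → ℂ) = degOf χ := by
    have h1 : ρ.character 1 = (χ : G → ℂ) 1 := by rw [hρχ]
    rw [Representation.char_one, apply_one_eq_degOf] at h1
    exact_mod_cast h1
  rcases Burnside.char_eq_zero_or_scalar ρ g (by rw [Blocks.natCard_isConj, hfin]; exact hcop) with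
    h | ⟨c, hc⟩
  · rw [← hρχ]; exact h
  exfalso
  have hgz : g ∈ Subgroup.center G := by
    refine Subgroup.mem_center_iff.2 fun h => ?_
    have h4 : ρ (h * g) = ρ (g * h) := by
      rw [map_mul, map_mul, hc, Algebra.mul_smul_comm, Algebra.smul_mul_assoc, mul_one, one_mul]
    have h5 : h * g * (g * h)⁻¹ = 1 := faithful_of_ne_trivial hne (by
      rw [← hρχ]
      have h6 : ρ (h * g * (g * h)⁻¹) = 1 := by
        rw [map_mul, h4, ← map_mul, mul_inv_cancel, map_one]
      simp only [Representation.character, h6, map_one])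
    exact mul_inv_eq_one.mp h5
  rcases (inferInstance : (Subgroup.center G).Normal).eq_bot_or_eq_top with h | h
  · rw [h, Subgroup.mem_bot] at hgz
    exact hg hgz
  · obtain ⟨a, b, hab⟩ := hna
    have : b ∈ Subgroup.center G := h ▸ Subgroup.mem_top b
    exact hab (Subgroup.mem_center_iff.1 this a)

/-- An integral form of the central character. -/
theorem degOf_dvd_index_mul {χ : IrrCharacter G} {g : G} {a : ℤ} (ha : (χ : G → ℂ) g = (a : ℂ)) :
    (degOf χ : ℤ) ∣ ((centralizer ({g} : Set G)).index : ℤ) * a := by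
  refine natCast_dvd_of_isIntegral_div (degOf_pos χ).ne' ?_
  have h := Blocks.centralChar_isIntegral χ g
  rw [centralChar, ha, apply_one_eq_degOf] at h
  push_cast
  exact h

/-- The block when there is one exceptional character. -/
theorem exists_star (D : Setting p G) (K : Frame D) (ht : D.t = 1) :
    ∃ (T : Finset (IrrCharacter G)) (s : IrrCharacter G → ℤ), T.card = D.e + 1 ∧
      Chars.trivialIrr G ∈ T ∧ s (Chars.trivialIrr G) = 1 ∧
      (∀ χ ∈ T, (s χ = 1 ∨ s χ = -1) ∧ (χ : G → ℂ) D.S.x = (s χ : ℂ) ∧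
        (degOf χ : ℤ) ≡ s χ [ZMOD p] ∧ degOf χ ∣ D.e * (1 + D.n * p)) ∧
      (∀ χ, χ ∉ T → (χ : G → ℂ) D.S.x = 0) ∧
      ∀ g : G, ¬ p ∣ orderOf g → ∑ χ ∈ T, (s χ : ℂ) * (χ : G → ℂ) g = 0 := by
  classical
  obtain ⟨θ, hB⟩ := card_eq_one.mp (D.cardB.trans ht)
  have hθ : θ ∈ D.B := hB ▸ mem_singleton_self θ
  have hxx : D.S.x = xp p D.S.x 1 := xp_one.symm
  let s : IrrCharacter G → ℤ := fun χ => if χ ∈ D.A then D.δ χ else -D.ε
  have hsA : ∀ χ ∈ D.A, s χ = D.δ χ := fun χ hχ => if_pos hχ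
  have hsB : s θ = -D.ε := if_neg fun h => disjoint_left.mp D.disj h hθ
  have he : (D.e : ℤ) ≡ -1 [ZMOD p] := by
    have h1 := D.het
    rw [ht, mul_one] at h1
    rw [Int.modEq_iff_dvd, h1, Nat.cast_sub hp.out.pos, Nat.cast_one]
    exact ⟨-1, by ring⟩
  have hprops : ∀ χ ∈ D.A ∪ D.B, (s χ = 1 ∨ s χ = -1) ∧ (χ : G → ℂ) D.S.x = (s χ : ℂ) ∧
      (degOf χ : ℤ) ≡ s χ [ZMOD p] ∧ degOf χ ∣ D.e * (1 + D.n * p) := by
    intro χ hχ
    rcases mem_union.mp hχ with h | h
    · rw [hsA χ h]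
      exact ⟨D.δ_unit χ h, by rw [hxx, D.applyA χ h 1 one_ne_zero], D.congrA χ h, D.dvdA χ h⟩
    · have hχθ : χ = θ := by rw [hB] at h; exact mem_singleton.mp h
      subst hχθ
      rw [hsB]
      refine ⟨by rcases D.ε_unit with h2 | h2 <;> simp [h2], ?_, ?_, D.dvdB χ h⟩
      · rw [hxx, D.applyB χ h 1 one_ne_zero, D.profileB_const ht h one_ne_zero]
      · simpa using (D.congrB χ h).trans (he.mul_left D.ε)
  refine ⟨D.A ∪ D.B, s, by rw [card_union_of_disjoint D.disj, D.cardA, D.cardB, ht],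
    D.triv_mem, ?_, hprops, ?_, ?_⟩
  · have h := (hprops _ D.triv_mem).2.1
    rw [Chars.trivialIrr_apply] at h
    exact_mod_cast h.symm
  · intro χ hχ
    rw [mem_union, not_or] at hχ
    rw [hxx, ← K.profile_eq χ 1, D.profile_rest χ hχ.1 hχ.2 1 one_ne_zero]
  · intro g hg
    rw [sum_union D.disj, hB, sum_singleton, hsB, sum_congr rfl fun χ hχ => by rw [hsA χ hχ],
      ← D.rel θ hθ g hg]
    push_cast
    ring

end Cfsg.Agent.Lib.BrauerTuan
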