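/-
The local data at the prime five for orders `5 * 3 ^ a * 2 ^ b`.
-/
import Mathlib
import Cfsg.Agent.S1001
import Cfsg.Agent.Lib.BrauerTuan.Simple
import Cfsg.Agent.Lib.BrauerTuan.SmallBlock

set_option autoImplicit false
set_option linter.unusedSectionVars false
set_option linter.style.haveILetI false

namespace Cfsg.Agent.Lib.BrauerTuan

open Cfsg Cfsg.Agent.Lib Subgroup
open Cfsg.Agent.Lib.DefectOne
open Cfsg.Agent.Lib.BrauerReynolds

universe u

variable {G : Type u} [Group G] [Fintype G]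

theorem exists_five_setting [IsSimpleGroup G] (hG : ¬ IsMulCommutative G) {a b : ℕ}
    [Fact (Nat.Prime 5)] (h : Nat.card G = 5 * 3 ^ a * 2 ^ b) :
    ∃ D : Setting 5 G, Nonempty (Frame D) ∧ D.e * D.t = 4 ∧ 2 ≤ D.e ∧
      5 * (D.e * (1 + D.n * 5)) = Nat.card G ∧
      Nat.card (centralizer ({D.S.x} : Set G)) = 5 := by
  classical
  have hdvd : 5 ∣ Nat.card G := by rw [h, mul_assoc]; exact dvd_mul_right _ _
  have hR := reduced_of_simple hG hdvd
  have hfac : (Nat.card G).factorization 5 = 1 := by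
    rw [h, Nat.factorization_mul (Nat.mul_ne_zero (by norm_num) (pow_ne_zero _ (by norm_num)))
      (pow_ne_zero _ (by norm_num)), Nat.factorization_mul (by norm_num) (pow_ne_zero _ (by norm_num)),
      Nat.prime_three.factorization_pow, Nat.prime_two.factorization_pow]
    simp [(Fact.out : Nat.Prime 5).factorization_self]
  obtain ⟨P⟩ := (inferInstance : Nonempty (Sylow 5 G))
  have hP : Nat.card P = 5 := by
    show Nat.card (P : Subgroup G) = 5
    rw [Sylow.card_eq_multiplicity, hfac, pow_one]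
  obtain ⟨n, hn⟩ : ∃ n, Nat.card (Sylow 5 G) = 1 + n * 5 := by
    have h1 := card_sylow_modEq_one 5 G
    have h2 : 1 ≤ Nat.card (Sylow 5 G) := Nat.card_pos
    obtain ⟨j, hj⟩ := (Nat.modEq_iff_dvd' h2).mp h1.symm
    exact ⟨j, by rw [mul_comm]; omega⟩
  obtain ⟨D, -, -⟩ := exists_setting hR P hP n hn
  have hC := Cfsg.Agent.S1001.result 5 a b Fact.out h D.S.x D.S.order_x
  have hC5 : Nat.card (centralizer ({D.S.x} : Set G)) = 5 := by
    rw [hC, Nat.card_zpowers, D.S.order_x]
  have hV : D.S.V = ⊥ := by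
    have h1 := card_centralizer_x D.S
    rw [hC5] at h1
    exact Subgroup.card_eq_one.mp (by omega)
  have hG' := D.card_group
  rw [hV, Subgroup.card_bot, mul_one] at hG'
  exact ⟨D, exists_frame D hV, D.het, D.two_le_e, hG'.symm, hC5⟩

end Cfsg.Agent.Lib.BrauerTuan
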