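/-
In a non-abelian simple group the value of a character at an involution is congruent to the
degree modulo four; characters vanishing on the nontrivial powers of an element of prime order.
-/
import Mathlib
import Cfsg.Agent.Lib.BrauerReynolds.Setting
import Cfsg.Agent.Lib.SmallGroups.Basic
import Cfsg.Agent.Lib.SmallGroups.PrimeChar.Gram

set_option autoImplicit false
set_option linter.unusedSectionVars false
set_option linter.style.haveILetI false

namespace Cfsg.Agent.Lib.BrauerTuan

open Cfsg Cfsg.Agent.Lib Finset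
open Cfsg.Agent.Lib.DefectOne Cfsg.Agent.Lib.BrauerReynolds
open Cfsg.Agent.Lib.SmallGroups.PrimeChar (xp xp_zero mult exists_mult_nat)

universe u

variable {G : Type u} [Group G] [Fintype G]

theorem dvd_sub_apply_involution [IsSimpleGroup G] (hG : ¬ IsMulCommutative G) (χ : IrrCharacter G)
    {t : G} (ht : t * t = 1) {a : ℤ} (ha : (χ : G → ℂ) t = a) : (4 : ℤ) ∣ (degOf χ : ℤ) - a := by
  classical
  obtain ⟨n, ρ, -, hρ⟩ := Chars.irr_exists_rep χ
  set E : Module.End ℂ (Fin n → ℂ) := ρ t with hE
  have hEE : ∀ v, E (E v) = v := fun v => by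
    rw [hE, ← Module.End.mul_apply, ← map_mul, ht, map_one, Module.End.one_apply]
  let Wp := LinearMap.ker (E - 1)
  let Wm := LinearMap.ker (E + 1)
  have hp : ∀ v ∈ Wp, E v = v := fun v hv => by simpa [Wp, sub_eq_zero] using hv
  have hm : ∀ v ∈ Wm, E v = -v := fun v hv => by
    simpa [Wm, add_eq_zero_iff_eq_neg] using hv
  have hc : IsCompl Wp Wm := by
    constructor
    · rw [disjoint_iff, eq_bot_iff]
      intro v hv
      have h1 := hp v hv.1
      rw [hm v hv.2] at h1
      have : (2 : ℂ) • v = 0 := by rw [two_smul]; nth_rewrite 1 [← h1]; simp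
      exact (smul_eq_zero.mp this).resolve_left two_ne_zero
    · rw [codisjoint_iff, eq_top_iff]
      intro v _
      refine Submodule.mem_sup.mpr ⟨(1 / 2 : ℂ) • (v + E v), ?_, (1 / 2 : ℂ) • (v - E v), ?_, ?_⟩
      · simp only [Wp, LinearMap.mem_ker, LinearMap.sub_apply, Module.End.one_apply, map_smul, map_add, hEE]
        module
      · simp only [Wm, LinearMap.mem_ker, LinearMap.add_apply, Module.End.one_apply, map_smul, map_sub, hEE]
        module
      · rw [← smul_add, add_add_sub_cancel, ← two_smul ℂ v, smul_smul]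
        norm_num
  set eq := Submodule.prodEquivOfIsCompl _ _ hc with heq
  have hconj : E = eq.conj ((1 : Module.End ℂ Wp).prodMap (-1 : Module.End ℂ Wm)) := by
    refine LinearMap.ext fun v => ?_
    obtain ⟨⟨a, b⟩, rfl⟩ := eq.surjective v
    rw [LinearEquiv.conj_apply_apply, LinearEquiv.symm_apply_apply]
    simp only [heq, Submodule.coe_prodEquivOfIsCompl', LinearMap.prodMap_apply, Module.End.one_apply,
      LinearMap.neg_apply, Submodule.coe_neg, map_add, hp _ a.2, hm _ b.2]
  have htr : LinearMap.trace ℂ _ E = (Module.finrank ℂ Wp : ℂ) - Module.finrank ℂ Wm := by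
    rw [hconj, LinearMap.trace_conj', LinearMap.trace_prodMap',
      show (-1 : Module.End ℂ Wm) = (-1 : ℂ) • LinearMap.id from by ext; simp, map_smul,
      LinearMap.trace_id, LinearMap.trace_one, smul_eq_mul, neg_one_mul, sub_eq_add_neg]
  have hdet : LinearMap.det E = (-1 : ℂ) ^ Module.finrank ℂ Wm := by
    rw [hconj, LinearEquiv.conj_apply, LinearMap.comp_assoc, LinearMap.det_conj, LinearMap.det_prodMap,
      show (1 : Module.End ℂ Wp) = LinearMap.id from rfl, LinearMap.det_id, one_mul,
      show (-1 : Module.End ℂ Wm) = (-1 : ℂ) • LinearMap.id from by ext; simp, LinearMap.det_smul,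
      LinearMap.det_id, mul_one]
  have hone : LinearMap.det E = 1 := by
    have h1 := SmallGroups.hom_commGroup_eq_one hG (MonoidHom.toHomUnits (LinearMap.det.comp ρ)) t
    have h2 := congrArg (Units.val) h1
    simpa [hE] using h2
  rw [hone] at hdet
  obtain ⟨k, hk⟩ : Even (Module.finrank ℂ Wm) := neg_one_pow_eq_one_iff_even (by norm_num) |>.mp hdet.symm
  have hdim : Module.finrank ℂ Wp + Module.finrank ℂ Wm = degOf χ := by
    rw [Submodule.finrank_add_eq_of_isCompl hc]
    have h1 : ρ.character 1 = (χ : G → ℂ) 1 := by rw [hρ]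
    rw [Representation.char_one, apply_one_eq_degOf] at h1
    exact_mod_cast h1
  have hval : a = (Module.finrank ℂ Wp : ℤ) - Module.finrank ℂ Wm := by
    apply Int.cast_injective (α := ℂ)
    push_cast
    rw [← htr, ← ha, ← hρ]
    rfl
  exact ⟨k, by omega⟩

/-- A character vanishing on the nontrivial powers of an element of order `p` has degree divisible
by `p`. -/
theorem dvd_degOf_of_vanish {p : ℕ} [hp : Fact p.Prime] {x : G} (hx : orderOf x = p)
    {χ : IrrCharacter G} (h : ∀ j : ZMod p, j ≠ 0 → (χ : G → ℂ) (xp p x j) = 0) : p ∣ degOf χ := by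
  classical
  obtain ⟨k, hk⟩ := exists_mult_nat hx χ 0
  rw [mult, Finset.sum_eq_single (0 : ZMod p) (fun j _ hj => by rw [h j hj, zero_mul])
    (fun h => absurd (mem_univ _) h), xp_zero, apply_one_eq_degOf, mul_zero, neg_zero,
    AddChar.map_zero_eq_one, mul_one, inv_mul_eq_iff_eq_mul₀ (Nat.cast_ne_zero.mpr hp.out.ne_zero)] at hk
  exact ⟨k, by exact_mod_cast hk⟩

end Cfsg.Agent.Lib.BrauerTuan
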